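import Cfsg.Agent.Lib.ThreeTransp.Structure
import Cfsg.Agent.Lib.Cores.Basic

/-!
Short relations between pairwise commuting transpositions and their lifting from the group
generated by the members commuting with one member, taken modulo its centre.
-/

set_option autoImplicit false

namespace Cfsg.Agent.ThreeTransp.Factor

open Cfsg.Agent.ThreeTransp

variable {G : Type*} [Group G] {D : Set G}

/-- The other members commuting with `d`. -/
def nb (D : Set G) (d : G) : Set G := {y : G | y ∈ D ∧ y ≠ d ∧ Commute d y}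

/-- The group generated by `nb D d`. -/
abbrev Hd (D : Set G) (d : G) : Subgroup G := Subgroup.closure (nb D d)

/-- The generators of `Hd D d`. -/
def Dl (D : Set G) (d : G) : Set ↥(Hd D d) := {x | (x : G) ∈ nb D d}

/-- `Hd D d` modulo its centre. -/
abbrev Sd (D : Set G) (d : G) : Type _ := ↥(Hd D d) ⧸ Subgroup.center ↥(Hd D d)

/-- The image of the generators modulo the centre. -/
def Dq (D : Set G) (d : G) : Set (Sd D d) := (QuotientGroup.mk : ↥(Hd D d) → _) '' Dl D d

/-- No product of at most `k` different pairwise commuting members is trivial. -/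
def Rel (k : ℕ) (D : Set G) : Prop :=
  ∀ l : List G, l.Nodup → 1 ≤ l.length → l.length ≤ k → (∀ a ∈ l, a ∈ D) →
    (∀ a ∈ l, ∀ b ∈ l, Commute a b) → l.prod ≠ 1

/-- Different commuting generators have different images modulo the centre. -/
def Sep (D : Set G) (d : G) : Prop :=
  ∀ x ∈ Dl D d, ∀ y ∈ Dl D d,
    (QuotientGroup.mk x : Sd D d) = QuotientGroup.mk y → x = y

theorem Hd_commute {d x : G} (hx : x ∈ Hd D d) : Commute d x := by
  induction hx using Subgroup.closure_induction with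
  | mem x hx => exact hx.2.2
  | one => exact Commute.one_right _
  | mul x y _ _ hx hy => exact hx.mul_right hy
  | inv x _ hx => exact hx.inv_right

theorem mem_Hd {d y : G} (hy : y ∈ nb D d) : y ∈ Hd D d := Subgroup.subset_closure hy

theorem closure_Dl (d : G) : Subgroup.closure (Dl D d) = ⊤ :=
  Subgroup.closure_closure_coe_preimage

theorem closure_Dq (d : G) : Subgroup.closure (Dq D d) = ⊤ := by
  rw [Dq, show (QuotientGroup.mk : ↥(Hd D d) → Sd D d) = QuotientGroup.mk' _ from rfl,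
    ← MonoidHom.map_closure, closure_Dl,
    Subgroup.map_top_of_surjective _ (QuotientGroup.mk'_surjective _)]

theorem mk_eq_iff {d : G} {x y : ↥(Hd D d)} :
    (QuotientGroup.mk x : Sd D d) = QuotientGroup.mk y ↔ x⁻¹ * y ∈ Subgroup.center ↥(Hd D d) :=
  QuotientGroup.eq

variable (hD : Cfsg.IsThreeTranspositionGroup D)
include hD

theorem grp_Dl (d : G) : Cfsg.IsThreeTranspositionGroup (Dl D d) := by
  refine ⟨⟨fun x hx => ?_, fun x hx y hy => ?_⟩, fun g x hx => ?_, closure_Dl d⟩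
  · rw [← orderOf_injective (Hd D d).subtype (Subgroup.subtype_injective _) x]
    exact hD.1.1 _ hx.1
  · rcases hD.1.2 _ hx.1 _ hy.1 with h | h
    · exact Or.inl (Subtype.ext h)
    · exact Or.inr (Subtype.ext h)
  · refine ⟨hD.2.1 _ _ hx.1, fun e => hx.2.1 ?_, ?_⟩
    · have hc := Hd_commute g.2
      simp only [Subgroup.coe_mul, InvMemClass.coe_inv] at e
      calc (x : G) = (g : G)⁻¹ * ((g : G) * x * (g : G)⁻¹) * g := by group
        _ = (g : G)⁻¹ * d * g := by rw [e]
        _ = d := by rw [mul_assoc, hc.eq]; group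
    · simp only [Subgroup.coe_mul, InvMemClass.coe_inv]
      exact ((Hd_commute g.2).mul_right hx.2.2).mul_right (Hd_commute g.2).inv_right

omit hD in
theorem pCore_le_center_of_quot [Finite G] {d : G} {p : ℕ} (hS : Cfsg.pCore p (Sd D d) = ⊥) :
    Cfsg.pCore p ↥(Hd D d) ≤ Subgroup.center ↥(Hd D d) := by
  intro x hx
  have h : (QuotientGroup.mk' (Subgroup.center ↥(Hd D d))) x ∈ Cfsg.pCore p (Sd D d) :=
    Cores.map_pCore_le (QuotientGroup.mk'_surjective _) p ⟨x, hx, rfl⟩
  rw [hS, Subgroup.mem_bot] at h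
  exact (QuotientGroup.eq_one_iff x).1 h

/-- Generators with the same commuting members in a group with central 2-core coincide. -/
theorem eq_of_sameComm [Finite G] {d : G}
    (h2 : Cfsg.pCore 2 ↥(Hd D d) ≤ Subgroup.center ↥(Hd D d)) {x y : ↥(Hd D d)}
    (hx : x ∈ Dl D d) (h : Classes.SameComm (Dl D d) x y)
    (hne : x ∉ Subgroup.center ↥(Hd D d)) : x = y := by
  have hL := grp_Dl hD d
  obtain ⟨e, he, hxe⟩ : ∃ e ∈ Dl D d, ¬ Commute x e := by
    by_contra! hcon
    refine hne ?_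
    have hle : Subgroup.closure (Dl D d) ≤ Subgroup.centralizer ({x} : Set ↥(Hd D d)) :=
      (Subgroup.closure_le _).2 fun e he => Subgroup.mem_centralizer_iff.2 (by
        rintro _ rfl; exact (hcon e he).eq)
    rw [closure_Dl] at hle
    exact Subgroup.mem_center_iff.2 fun g =>
      (Subgroup.mem_centralizer_iff.1 (hle (Subgroup.mem_top g)) x rfl).symm
  obtain ⟨g, hg, rfl⟩ := Classes.sameComm_exists_conj hL hx h ⟨e, he, hxe⟩
  rw [← Subgroup.mem_center_iff.1 (h2 hg) x, mul_inv_cancel_right]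

/-- The main step: trivial 2-core upstairs and separation modulo the centre. -/
theorem core [Finite G] (htrans : ∀ a ∈ D, ∀ b ∈ D, ∃ g : G, g * a * g⁻¹ = b)
    (hZ : Subgroup.center G = ⊥) {d : G} (hd : d ∈ D) (hnt : Nontrivial (Sd D d))
    (hS : Cfsg.pCore 2 (Sd D d) = ⊥) :
    Cfsg.pCore 2 G = ⊥ ∧ (∀ x ∈ Dl D d, x ∉ Subgroup.center ↥(Hd D d)) ∧ Sep D d := by
  have h2H := pCore_le_center_of_quot hS
  obtain ⟨x, hx, hxZ⟩ : ∃ x ∈ Dl D d, x ∉ Subgroup.center ↥(Hd D d) := by
    by_contra! hcon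
    have htop : Subgroup.center ↥(Hd D d) = ⊤ := by
      rw [eq_top_iff, ← closure_Dl d, Subgroup.closure_le]
      exact hcon
    have : Subsingleton (Sd D d) := by
      refine ⟨fun a b => ?_⟩
      obtain ⟨a, rfl⟩ := QuotientGroup.mk_surjective a
      obtain ⟨b, rfl⟩ := QuotientGroup.mk_surjective b
      exact QuotientGroup.eq.2 (htop ▸ Subgroup.mem_top _)
    exact not_subsingleton (Sd D d) this
  have h2G : Cfsg.pCore 2 G = ⊥ := by
    rw [eq_bot_iff]
    by_contra hn
    have hn' : ¬ Cfsg.pCore 2 G ≤ Subgroup.center G := by rwa [hZ]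
    have : (Cfsg.pCore 2 G).Normal := Cores.pCore_normal 2
    obtain ⟨q, hq, hqx⟩ := Structure.exists_moved hD htrans hn' hx.1
    have hV := (Classes.sameComm_iff_mem hD hx.1).2
      ⟨hD.2.1 q _ hx.1, Classes.inv_mul_conj_mem hD _ hq⟩
    generalize q * (x : G) * q⁻¹ = v at hqx hV
    have hvd : v ≠ d := by
      rintro rfl
      refine hxZ (Subgroup.mem_center_iff.2 fun g => ?_)
      have hle : Subgroup.closure (Dl D v) ≤ Subgroup.centralizer ({x} : Set ↥(Hd D v)) :=
        (Subgroup.closure_le _).2 fun e he => Subgroup.mem_centralizer_iff.2 (by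
          rintro _ rfl
          exact Subtype.ext ((hV.2 _ he.1).1 he.2.2).eq)
      rw [closure_Dl] at hle
      exact (Subgroup.mem_centralizer_iff.1 (hle (Subgroup.mem_top g)) x rfl).symm
    have hvn : v ∈ nb D d := ⟨hV.1, hvd, ((hV.2 d hd).2 hx.2.2.symm).symm⟩
    have hS' : Classes.SameComm (Dl D d) x ⟨v, mem_Hd hvn⟩ := by
      refine ⟨hvn, fun e he => ?_⟩
      have h := hV.2 (e : G) he.1
      exact ⟨fun hc => Subtype.ext (h.1 (congrArg Subtype.val hc.eq)).eq,
        fun hc => Subtype.ext (h.2 (congrArg Subtype.val hc.eq)).eq⟩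
    exact hqx (congrArg Subtype.val (eq_of_sameComm hD h2H hx hS' hxZ)).symm
  have hcent : ∀ y ∈ Dl D d, y ∉ Subgroup.center ↥(Hd D d) := by
    intro y hy hyZ
    have hsub : {e | e ∈ D ∧ Commute d e} ⊆ {e | e ∈ D ∧ Commute (y : G) e} := by
      rintro e ⟨he, hde⟩
      refine ⟨he, ?_⟩
      by_cases hed : e = d
      · exact hed ▸ hy.2.2.symm
      exact (congrArg Subtype.val
        (Subgroup.mem_center_iff.1 hyZ ⟨e, mem_Hd ⟨he, hed, hde⟩⟩)).symm
    obtain ⟨g, hg⟩ := htrans d hd _ hy.1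
    have hcard : {e | e ∈ D ∧ Commute (y : G) e}.ncard ≤ {e | e ∈ D ∧ Commute d e}.ncard := by
      refine Set.ncard_le_ncard_of_injOn (fun e => g⁻¹ * e * g) ?_ ?_ (Set.toFinite _)
      · rintro e ⟨he, hye⟩
        refine ⟨Classes.inv_conj_mem hD g he, ?_⟩
        refine (Basic.commute_conj (g := g)).1 ?_
        rw [hg, show g * (g⁻¹ * e * g) * g⁻¹ = e by group]
        exact hye
      · intro a _ b _ h
        exact mul_left_cancel (mul_right_cancel h)
    have heq := Set.eq_of_subset_of_ncard_le hsub hcard (Set.toFinite _)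
    have hV : Classes.SameComm D d (y : G) := ⟨hy.1, fun e he =>
      ⟨fun h => ((Set.ext_iff.1 heq e).2 ⟨he, h⟩).2, fun h => ((Set.ext_iff.1 heq e).1 ⟨he, h⟩).2⟩⟩
    have h := ((Classes.sameComm_iff_mem hD hd).1 hV).2
    rw [h2G, Subgroup.mem_bot, inv_mul_eq_one] at h
    exact hy.2.1 h.symm
  refine ⟨h2G, hcent, fun y hy z hz hyz => ?_⟩
  have hL := grp_Dl hD d
  refine eq_of_sameComm hD h2H hy ((Classes.sameComm_iff_mem hL hy).2 ⟨hz, ?_⟩) (hcent y hy)
  have hm := mk_eq_iff.1 hyz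
  have hc : Commute y z := by
    have h := Subgroup.mem_center_iff.1 hm y
    rw [← mul_assoc, mul_inv_cancel, one_mul] at h
    calc y * z = y * (y⁻¹ * z * y) := by rw [← h]
      _ = z * y := by group
  have hsq : (y⁻¹ * z) * (y⁻¹ * z) = 1 := by
    rw [Classes.inv hL hy, mul_assoc, ← mul_assoc z y z, ← hc.eq, mul_assoc y z z,
      Classes.sq hL hz, mul_one, Classes.sq hL hy]
  have : (Subgroup.zpowers (y⁻¹ * z)).Normal := ⟨fun w hw g => by
    obtain ⟨i, rfl⟩ := Subgroup.mem_zpowers_iff.1 hw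
    rw [Subgroup.mem_center_iff.1 (Subgroup.zpow_mem _ hm i) g, mul_inv_cancel_right]
    exact Subgroup.zpow_mem_zpowers _ i⟩
  refine Cores.le_pCore (p := 2) ?_ (Subgroup.mem_zpowers _)
  intro w
  obtain ⟨i, hi⟩ := Subgroup.mem_zpowers_iff.1 w.2
  refine ⟨1, Subtype.ext ?_⟩
  rw [SubmonoidClass.coe_pow, ← hi, pow_one, pow_two, ← (Commute.refl (y⁻¹ * z)).mul_zpow, hsq,
    one_zpow]
  rfl

theorem grp_Dq {d : G} (hne : ∀ x ∈ Dl D d, x ∉ Subgroup.center ↥(Hd D d)) :
    Cfsg.IsThreeTranspositionGroup (Dq D d) := by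
  have hL := grp_Dl hD d
  refine ⟨⟨?_, ?_⟩, ?_, closure_Dq d⟩
  · rintro _ ⟨x, hx, rfl⟩
    refine orderOf_eq_prime ?_ fun h => hne x hx ((QuotientGroup.eq_one_iff x).1 h)
    rw [← QuotientGroup.mk_pow, pow_two, Classes.sq hL hx]
    rfl
  · rintro _ ⟨x, hx, rfl⟩ _ ⟨y, hy, rfl⟩
    rcases hL.1.2 x hx y hy with h | h
    · left; rw [← QuotientGroup.mk_mul, ← QuotientGroup.mk_pow, h]; rfl
    · right; rw [← QuotientGroup.mk_mul, ← QuotientGroup.mk_pow, h]; rfl
  · intro g
    obtain ⟨g, rfl⟩ := QuotientGroup.mk_surjective g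
    rintro _ ⟨x, hx, rfl⟩
    exact ⟨g * x * g⁻¹, hL.2.1 g x hx, rfl⟩

/-- Relations lift, gaining one. -/
theorem rel_lift (htrans : ∀ a ∈ D, ∀ b ∈ D, ∃ g : G, g * a * g⁻¹ = b) {d : G} (hd : d ∈ D)
    (hsep : Sep D d) {k : ℕ} (hk : Rel k (Dq D d)) : Rel (k + 1) D := by
  intro l hnd hl1 hlk hmem hcomm hprod
  obtain ⟨a, t, rfl⟩ : ∃ a t, l = a :: t := by
    cases l with
    | nil => simp at hl1
    | cons a t => exact ⟨a, t, rfl⟩
  obtain ⟨g, hg⟩ := htrans a (hmem a (by simp)) d hd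
  set f := (MulAut.conj g).toMonoidHom with hf
  have hfa : f a = d := by simpa [hf] using hg
  have hinj : Function.Injective f := (MulAut.conj g).injective
  have hp : d * (t.map f).prod = 1 := by
    rw [← hfa, ← List.prod_cons, ← List.map_cons, ← map_list_prod, hprod, map_one]
  have hnd' : (d :: t.map f).Nodup := by
    rw [← hfa, ← List.map_cons]; exact hnd.map hinj
  obtain ⟨hdn, htn⟩ := List.nodup_cons.1 hnd'
  have hnb : ∀ x ∈ t.map f, x ∈ nb D d := by
    intro x hx
    refine ⟨?_, fun e => hdn (e ▸ hx), ?_⟩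
    · obtain ⟨y, hy, rfl⟩ := List.mem_map.1 hx
      simpa [hf] using hD.2.1 g y (hmem y (by simp [hy]))
    · obtain ⟨y, hy, rfl⟩ := List.mem_map.1 hx
      rw [← hfa]; exact (hcomm a (by simp) y (by simp [hy])).map f
  set m : List ↥(Hd D d) :=
    (t.map f).pmap Subtype.mk (fun x hx => mem_Hd (hnb x hx)) with hm
  have hmv : m.map Subtype.val = t.map f := by
    rw [hm, List.map_pmap]; exact (List.pmap_eq_map (f := id) _).trans (List.map_id _)
  have hmD : ∀ x ∈ m, x ∈ Dl D d := fun x hx => hnb _ (by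
    rw [← hmv]; exact List.mem_map_of_mem hx)
  have hpc : ((m.prod : ↥(Hd D d)) : G) = d := by
    rw [Subgroup.val_list_prod, hmv]
    exact (inv_eq_of_mul_eq_one_right hp).symm.trans (Classes.inv hD hd)
  refine hk (m.map QuotientGroup.mk) ?_ ?_ ?_ ?_ ?_ ?_
  · refine List.Nodup.map_on (fun x hx y hy h => hsep x (hmD x hx) y (hmD y hy) h) ?_
    refine List.Nodup.of_map Subtype.val ?_
    rw [hmv]; exact htn
  · rw [List.length_map, hm, List.length_pmap, List.length_map]
    rcases t with - | ⟨b, t⟩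
    · simp at hp
      exact absurd hp (Basic.ne_one hD.1 hd)
    · simp
  · rw [List.length_map, hm, List.length_pmap, List.length_map]
    simp at hlk; omega
  · intro x hx
    obtain ⟨y, hy, rfl⟩ := List.mem_map.1 hx
    exact ⟨y, hmD y hy, rfl⟩
  · intro x hx y hy
    obtain ⟨x, hx', rfl⟩ := List.mem_map.1 hx
    obtain ⟨y, hy', rfl⟩ := List.mem_map.1 hy
    refine Commute.map (f := QuotientGroup.mk' _) ?_
    have hxl := List.mem_map_of_mem (f := Subtype.val) hx'
    have hyl := List.mem_map_of_mem (f := Subtype.val) hy'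
    rw [hmv] at hxl hyl
    obtain ⟨u, hu, hu'⟩ := List.mem_map.1 hxl
    obtain ⟨v, hv, hv'⟩ := List.mem_map.1 hyl
    have hc := (hcomm u (by simp [hu]) v (by simp [hv])).map f
    rw [hu', hv'] at hc
    exact Subtype.ext hc.eq
  · rw [show m.map QuotientGroup.mk = m.map (QuotientGroup.mk' (Subgroup.center ↥(Hd D d))) from rfl,
      ← map_list_prod]
    refine (QuotientGroup.eq_one_iff _).2 (Subgroup.mem_center_iff.2 fun h => Subtype.ext ?_)
    simp only [Subgroup.coe_mul, hpc]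
    exact (Hd_commute h.2).symm.eq

end Cfsg.Agent.ThreeTransp.Factor
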