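import Cfsg.Agent.Lib.ThreeTransp.Factor.Lists

/-!
In a primitive group of 3-transpositions any two of three commuting members are interchanged inside
the centraliser of the third.
-/

set_option autoImplicit false

namespace Cfsg.Agent.ThreeTransp.Factor

open Cfsg.Agent.ThreeTransp

variable {G : Type*} [Group G] {D : Set G}

/-- Two noncentral members of a transitive class fail to commute with a common member. -/
theorem exists_not_commute_both (hD : Cfsg.IsThreeTranspositionGroup D)
    (htr : ∀ a ∈ D, ∀ b ∈ D, ∃ g : G, g * a * g⁻¹ = b) {p q : G}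
    (hpZ : p ∉ Subgroup.center G) (hqZ : q ∉ Subgroup.center G) :
    ∃ e ∈ D, ¬ Commute e p ∧ ¬ Commute e q := by
  by_contra! hcon
  have hall : ∀ e ∈ D, Commute e p ∨ Commute e q := fun e he =>
    or_iff_not_imp_left.2 (hcon e he)
  have hgen : Subgroup.closure D = ⊤ := hD.2.2
  have hnc : ∀ r : G, r ∉ Subgroup.center G → ∃ e ∈ D, ¬ Commute e r := by
    intro r hr
    by_contra! h
    refine hr (Subgroup.mem_center_iff.2 fun g => ?_)
    have hg : g ∈ Subgroup.closure D := by rw [hgen]; exact Subgroup.mem_top g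
    induction hg using Subgroup.closure_induction with
    | mem x hx => exact (h x hx).eq
    | one => exact (Commute.one_left r).eq
    | mul x y _ _ hx hy => exact (Commute.mul_left hx hy).eq
    | inv x _ hx => exact (Commute.inv_left hx).eq
  set A := {f : G | f ∈ D ∧ Commute f p ∧ ¬ Commute f q} with hA
  have hcomm : ∀ a ∈ A, ∀ b ∈ D, ¬ Commute b p → Commute a b := by
    rintro a ⟨ha, hap, haq⟩ b hb hbp
    have hbq : Commute b q := (hall b hb).resolve_left hbp
    by_contra hab
    have hbr := Basic.braid hD.1 ha hb hab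
    rcases hall (a * b * a) (Classes.conj_mem hD ha hb) with h | h
    · refine hbp ?_
      have e : b = a * (a * b * a) * a := by
        rw [show a * (a * b * a) * a = (a * a) * b * (a * a) by simp [mul_assoc],
          Classes.sq hD ha, one_mul, mul_one]
      rw [e]; exact (hap.mul_left h).mul_left hap
    · refine haq ?_
      rw [hbr] at h
      have e : a = b * (b * a * b) * b := by
        rw [show b * (b * a * b) * b = (b * b) * a * (b * b) by simp [mul_assoc],
          Classes.sq hD hb, one_mul, mul_one]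
      rw [e]; exact (hbq.mul_left h).mul_left hbq
  obtain ⟨a₀, ha₀, ha₀q⟩ := hnc q hqZ
  have ha₀A : a₀ ∈ A := ⟨ha₀, (hall a₀ ha₀).resolve_right ha₀q, ha₀q⟩
  have hnorm : ∀ f ∈ D, ∀ a ∈ A, f * a * f⁻¹ ∈ Subgroup.closure A := by
    intro f hf a ha
    by_cases hfa : f ∈ A
    · exact mul_mem (mul_mem (Subgroup.subset_closure hfa) (Subgroup.subset_closure ha))
        (inv_mem (Subgroup.subset_closure hfa))
    by_cases hfp : Commute f p
    · have hfq : Commute f q := by
        by_contra h
        exact hfa ⟨hf, hfp, h⟩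
      refine Subgroup.subset_closure ⟨hD.2.1 f a ha.1, (hfp.mul_left ha.2.1).mul_left hfp.inv_left,
        fun h => ha.2.2 ?_⟩
      have e : a = f⁻¹ * (f * a * f⁻¹) * f := by group
      rw [e]; exact (hfq.inv_left.mul_left h).mul_left hfq
    · rw [← (hcomm a ha f hf hfp).eq, mul_inv_cancel_right]
      exact Subgroup.subset_closure ha
  have hn : ∀ g : G, ∀ x ∈ Subgroup.closure A, g * x * g⁻¹ ∈ Subgroup.closure A := by
    intro g
    have hg : g ∈ Subgroup.closure D := by rw [hgen]; exact Subgroup.mem_top g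
    induction hg using Subgroup.closure_induction'' with
    | mem f hf =>
      intro x hx
      induction hx using Subgroup.closure_induction with
      | mem a ha => exact hnorm f hf a ha
      | one => rw [mul_one, mul_inv_cancel]; exact one_mem _
      | mul u v _ _ hu hv =>
        rw [show f * (u * v) * f⁻¹ = (f * u * f⁻¹) * (f * v * f⁻¹) by group]
        exact mul_mem hu hv
      | inv u _ hu =>
        rw [show f * u⁻¹ * f⁻¹ = (f * u * f⁻¹)⁻¹ by group]; exact inv_mem hu
    | inv_mem f hf =>
      intro x hx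
      rw [Classes.inv hD hf, inv_eq_of_mul_eq_one_right (Classes.sq hD hf)]
      induction hx using Subgroup.closure_induction with
      | mem a ha =>
        have := hnorm f hf a ha
        rwa [Classes.inv hD hf] at this
      | one => rw [mul_one, Classes.sq hD hf]; exact one_mem _
      | mul u v _ _ hu hv =>
        rw [show f * (u * v) * f = (f * u * f) * (f⁻¹ * v * f) by group, Classes.inv hD hf]
        exact mul_mem hu hv
      | inv u _ hu =>
        have := inv_mem hu
        rwa [show (f * u * f)⁻¹ = f⁻¹ * u⁻¹ * f⁻¹ by group, Classes.inv hD hf] at this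
    | one => intro x hx; rwa [one_mul, inv_one, mul_one]
    | mul u v _ _ hu hv =>
      intro x hx
      rw [show u * v * x * (u * v)⁻¹ = u * (v * x * v⁻¹) * u⁻¹ by group]
      exact hu _ (hv _ hx)
  have hle : Subgroup.closure D ≤ Subgroup.centralizer ({p} : Set G) := by
    have h1 : Subgroup.closure D ≤ Subgroup.closure A := by
      rw [Subgroup.closure_le]
      intro f hf
      obtain ⟨g, rfl⟩ := htr a₀ ha₀ f hf
      exact hn g a₀ (Subgroup.subset_closure ha₀A)
    refine h1.trans ?_
    rw [Subgroup.closure_le]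
    intro f hf
    rw [SetLike.mem_coe, Subgroup.mem_centralizer_iff]
    rintro _ rfl
    exact hf.2.1.eq.symm
  refine hpZ (Subgroup.mem_center_iff.2 fun g => ?_)
  exact (Subgroup.mem_centralizer_iff.1 (hle (hgen.symm ▸ Subgroup.mem_top g)) p rfl).symm

/-- The members commuting with a given one form a single class of the subgroup they generate. -/
theorem transitive_Dl [Finite G] (hD : Cfsg.IsThreeTranspositionGroup D)
    (hprim : Cfsg.IsPrimitiveUnderConj D) {c : G} (hc : c ∈ D)
    (hw : ∃ x ∈ D, ∃ y ∈ D, x ≠ y ∧ Commute x y) :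
    ∀ x ∈ Dl D c, ∀ y ∈ Dl D c, ∃ g : ↥(Hd D c), g * x * g⁻¹ = y := by
  intro x hx y hy
  obtain ⟨g, hg, hgxy⟩ := RankThree.linked_inner hD hprim hw
    (Primitive.cores_central hD hprim hw).1 hc hx.1 hy.1 hx.2.2 hy.2.2 hx.2.1 hy.2.1
  obtain ⟨k, hk, hk'⟩ := loc_conj hD hg _ hx
  exact ⟨⟨k, hk⟩, Subtype.ext (hk'.trans hgxy)⟩

/-- Two of three commuting members are interchanged by an element commuting with the third. -/
theorem exists_swap [Finite G] (hD : Cfsg.IsThreeTranspositionGroup D)
    (hprim : Cfsg.IsPrimitiveUnderConj D) {a b c : G} (ha : a ∈ D) (hb : b ∈ D) (hc : c ∈ D)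
    (hab : a ≠ b) (hac : a ≠ c) (hbc : b ≠ c) (cab : Commute a b) (cac : Commute a c)
    (cbc : Commute b c) :
    ∃ x : G, Commute x c ∧ x * a * x⁻¹ = b ∧ x * b * x⁻¹ = a := by
  have hL := grp_Dl hD c
  have htr := transitive_Dl hD hprim hc ⟨a, ha, b, hb, hab, cab⟩
  set a' : ↥(Hd D c) := ⟨a, mem_Hd ⟨ha, hac, cac.symm⟩⟩ with ha'
  set b' : ↥(Hd D c) := ⟨b, mem_Hd ⟨hb, hbc, cbc.symm⟩⟩ with hb'
  have haD : a' ∈ Dl D c := ⟨ha, hac, cac.symm⟩
  have hbD : b' ∈ Dl D c := ⟨hb, hbc, cbc.symm⟩
  have hz : ∀ r ∈ Dl D c, ∀ s ∈ Dl D c, r ≠ s → r ∉ Subgroup.center ↥(Hd D c) := by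
    intro r hr s hs hne hrZ
    obtain ⟨g, hg⟩ := htr r hr s hs
    rw [Subgroup.mem_center_iff.1 hrZ g, mul_inv_cancel_right] at hg
    exact hne hg
  have hne : a' ≠ b' := fun h => hab (congrArg Subtype.val h)
  obtain ⟨e, he, hea, heb⟩ :=
    exists_not_commute_both hL htr (hz a' haD b' hbD hne) (hz b' hbD a' haD hne.symm)
  have A : (e : G) * a * e = a * e * a :=
    congrArg Subtype.val (Basic.braid hL.1 he haD hea)
  have B : (e : G) * b * e = b * e * b :=
    congrArg Subtype.val (Basic.braid hL.1 he hbD heb)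
  have hes := Classes.sq hD he.1
  have has := Classes.sq hD ha
  have hbs := Classes.sq hD hb
  have key : ∀ u v : G, u * u = 1 → v * v = 1 → Commute u v → (e : G) * u * e = u * e * u →
      (e : G) * v * e = v * e * v →
      ((e : G) * (u * v) * e) * u * ((e : G) * (u * v) * e)⁻¹ = v := by
    intro u v hu hv huv U V
    have hinv : ((e : G) * (u * v) * e)⁻¹ = (e : G) * (u * v) * e := by
      rw [inv_eq_iff_mul_eq_one]
      calc (e : G) * (u * v) * e * ((e : G) * (u * v) * e)
          = e * u * v * ((e : G) * e) * (u * v) * e := by simp [mul_assoc]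
        _ = e * (u * (v * u) * v) * e := by rw [hes, mul_one]; simp [mul_assoc]
        _ = 1 := by rw [← huv.eq, ← mul_assoc u u v, hu, one_mul, hv, mul_one, hes]
    rw [hinv]
    calc (e : G) * (u * v) * e * u * ((e : G) * (u * v) * e)
        = e * v * u * ((e : G) * u * e) * (u * v) * e := by rw [huv.eq]; simp [mul_assoc]
      _ = e * v * (u * u) * e * (u * u) * v * e := by rw [U]; simp [mul_assoc]
      _ = e * (v * e * v) * e := by rw [hu, mul_one, mul_one]; simp [mul_assoc]
      _ = (e * e) * v * (e * e) := by rw [← V]; simp [mul_assoc]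
      _ = v := by rw [hes, one_mul, mul_one]
  refine ⟨(e : G) * (a * b) * e, ?_, key a b has hbs cab A B, ?_⟩
  · exact ((he.2.2.symm).mul_left (cac.mul_left cbc)).mul_left he.2.2.symm
  · have := key b a hbs has cab.symm B A
    rwa [← cab.eq] at this

end Cfsg.Agent.ThreeTransp.Factor
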