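import Cfsg.Agent.Lib.ThreeTransp.Factor.Types

/-!
Uniqueness of factorisations in list form, and the second triple with a given product.
-/

set_option autoImplicit false

namespace Cfsg.Agent.ThreeTransp.Factor

open Cfsg.Agent.ThreeTransp

variable {G : Type*} [Group G] {D : Set G}

theorem list_pair (hD : Cfsg.IsThreeTranspositionGroup D) (h4 : Rel 4 D) (j : G) (l l' : List G)
    (hl : l.Nodup ∧ l.length = 2 ∧ (∀ a ∈ l, a ∈ D) ∧ (∀ a ∈ l, ∀ b ∈ l, Commute a b) ∧ l.prod = j)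
    (hl' : l'.Nodup ∧ l'.length = 2 ∧ (∀ a ∈ l', a ∈ D) ∧ (∀ a ∈ l', ∀ b ∈ l', Commute a b) ∧
      l'.prod = j) : ∀ x : G, x ∈ l ↔ x ∈ l' := by
  obtain ⟨hn, hlen, hm, hc, hp⟩ := hl
  obtain ⟨hn', hlen', hm', hc', hp'⟩ := hl'
  obtain ⟨a, b, rfl⟩ := List.length_eq_two.1 hlen
  obtain ⟨x, y, rfl⟩ := List.length_eq_two.1 hlen'
  have hab : a ≠ b := by simpa using hn
  have hxy : x ≠ y := by simpa using hn'
  obtain ⟨rfl, rfl⟩ | ⟨rfl, rfl⟩ := pair_unique hD h4 (hm a (by simp)) (hm b (by simp))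
    (hm' x (by simp)) (hm' y (by simp)) hab hxy (hc a (by simp) b (by simp))
    (hc' x (by simp) y (by simp)) (by simpa using hp.trans hp'.symm)
  · exact fun w => Iff.rfl
  · intro w; simp [or_comm]

/-- Either two triples with the same product coincide or they are disjoint and commute elementwise. -/
theorem triple_cases (hD : Cfsg.IsThreeTranspositionGroup D) (h4 : Rel 4 D) {a b c x y z : G}
    (hl : [a, b, c].Nodup ∧ (∀ e ∈ [a, b, c], e ∈ D) ∧ ∀ e ∈ [a, b, c], ∀ f ∈ [a, b, c], Commute e f)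
    (hl' : [x, y, z].Nodup ∧ (∀ e ∈ [x, y, z], e ∈ D) ∧
      ∀ e ∈ [x, y, z], ∀ f ∈ [x, y, z], Commute e f)
    (he : a * b * c = x * y * z) :
    (∀ w : G, w ∈ [a, b, c] ↔ w ∈ [x, y, z]) ∨
      ([a, b, c, x, y, z].Nodup ∧
        ∀ e ∈ [a, b, c, x, y, z], ∀ f ∈ [a, b, c, x, y, z], Commute e f) := by
  obtain ⟨hn, hm, hc⟩ := hl
  obtain ⟨hn', hm', hc'⟩ := hl'
  simp only [List.mem_cons, List.not_mem_nil, or_false, forall_eq_or_imp, forall_eq] at hm hm'
  obtain ⟨ha, hb, hcD⟩ := hm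
  obtain ⟨hx, hy, hz⟩ := hm'
  simp only [List.nodup_cons, List.mem_cons, List.not_mem_nil, or_false, not_or, List.nodup_nil,
    and_true, not_false_eq_true] at hn hn'
  obtain ⟨⟨hab, hac⟩, hbc⟩ := hn
  obtain ⟨⟨hxy, hxz⟩, hyz⟩ := hn'
  have cab : Commute a b := hc a (by simp) b (by simp)
  have cac : Commute a c := hc a (by simp) c (by simp)
  have cbc : Commute b c := hc b (by simp) c (by simp)
  have cxy : Commute x y := hc' x (by simp) y (by simp)
  have cxz : Commute x z := hc' x (by simp) z (by simp)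
  have cyz : Commute y z := hc' y (by simp) z (by simp)
  have e1 : a * b * c = y * x * z := by rw [he, cxy.eq]
  have e2 : a * b * c = z * x * y := by
    rw [he, mul_assoc z x y, (cxz.symm.mul_right cyz.symm).eq]
  have fin : ∀ {p q r : G}, (∀ w : G, (w = a ∨ w = b ∨ w = c) ↔ (w = p ∨ w = q ∨ w = r)) →
      (∀ w : G, (w = p ∨ w = q ∨ w = r) ↔ (w = x ∨ w = y ∨ w = z)) →
      ∀ w : G, w ∈ [a, b, c] ↔ w ∈ [x, y, z] := fun h1 h2 w => by
    simp only [List.mem_cons, List.not_mem_nil, or_false]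
    exact (h1 w).trans (h2 w)
  by_cases s1 : x = a ∨ x = b ∨ x = c
  · exact Or.inl (fin (triple_eq_of_mem hD h4 ha hb hcD hy hz hx hab hac hbc hxy hxz hyz cab cac
      cbc cxy cxz cyz he s1) fun w => Iff.rfl)
  by_cases s2 : y = a ∨ y = b ∨ y = c
  · exact Or.inl (fin (triple_eq_of_mem hD h4 ha hb hcD hx hz hy hab hac hbc (Ne.symm hxy) hyz hxz
      cab cac cbc cxy.symm cyz cxz e1 s2) fun w => by tauto)
  by_cases s3 : z = a ∨ z = b ∨ z = c
  · exact Or.inl (fin (triple_eq_of_mem hD h4 ha hb hcD hx hy hz hab hac hbc (Ne.symm hxz)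
      (Ne.symm hyz) hxy cab cac cbc cxz.symm cyz.symm cxy e2 s3) fun w => by tauto)
  right
  refine ⟨?_, ?_⟩
  · simp only [List.nodup_cons, List.mem_cons, List.not_mem_nil, or_false, not_or, List.nodup_nil,
      and_true, not_false_eq_true]
    simp only [not_or] at s1 s2 s3
    exact ⟨⟨hab, hac, Ne.symm s1.1, Ne.symm s2.1, Ne.symm s3.1⟩,
      ⟨hbc, Ne.symm s1.2.1, Ne.symm s2.2.1, Ne.symm s3.2.1⟩,
      ⟨Ne.symm s1.2.2, Ne.symm s2.2.2, Ne.symm s3.2.2⟩, ⟨hxy, hxz⟩, hyz⟩
  · have cx := commute_each_three hD ha hb hcD hx hab hac hbc cab cac cbc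
      (by rw [he]; exact ((Commute.refl x).mul_right cxy).mul_right cxz)
    have cy := commute_each_three hD ha hb hcD hy hab hac hbc cab cac cbc
      (by rw [he]; exact (cxy.symm.mul_right (Commute.refl y)).mul_right cyz)
    have cz := commute_each_three hD ha hb hcD hz hab hac hbc cab cac cbc
      (by rw [he]; exact (cxz.symm.mul_right cyz.symm).mul_right (Commute.refl z))
    intro e he' f hf'
    simp only [List.mem_cons, List.not_mem_nil, or_false] at he' hf'
    rcases he' with rfl | rfl | rfl | rfl | rfl | rfl <;>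
      rcases hf' with rfl | rfl | rfl | rfl | rfl | rfl <;>
      first
        | exact Commute.refl _
        | assumption
        | (apply Commute.symm; assumption)
        | exact cx.1 | exact cx.2.1 | exact cx.2.2 | exact cy.1 | exact cy.2.1 | exact cy.2.2
        | exact cz.1 | exact cz.2.1 | exact cz.2.2
        | exact cx.1.symm | exact cx.2.1.symm | exact cx.2.2.symm | exact cy.1.symm
        | exact cy.2.1.symm | exact cy.2.2.symm | exact cz.1.symm | exact cz.2.1.symm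
        | exact cz.2.2.symm

theorem list_triple (hD : Cfsg.IsThreeTranspositionGroup D) (h6 : Rel 6 D) (j : G) (l l' : List G)
    (hl : l.Nodup ∧ l.length = 3 ∧ (∀ a ∈ l, a ∈ D) ∧ (∀ a ∈ l, ∀ b ∈ l, Commute a b) ∧ l.prod = j)
    (hl' : l'.Nodup ∧ l'.length = 3 ∧ (∀ a ∈ l', a ∈ D) ∧ (∀ a ∈ l', ∀ b ∈ l', Commute a b) ∧
      l'.prod = j) : ∀ x : G, x ∈ l ↔ x ∈ l' := by
  obtain ⟨hn, hlen, hm, hc, hp⟩ := hl
  obtain ⟨hn', hlen', hm', hc', hp'⟩ := hl'
  obtain ⟨a, b, c, rfl⟩ := List.length_eq_three.1 hlen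
  obtain ⟨x, y, z, rfl⟩ := List.length_eq_three.1 hlen'
  have hj : a * b * c = j := by rw [← hp]; simp [mul_assoc]
  have hj' : x * y * z = j := by rw [← hp']; simp [mul_assoc]
  refine (triple_cases hD (h6.mono (by norm_num)) ⟨hn, hm, hc⟩ ⟨hn', hm', hc'⟩
    (hj.trans hj'.symm)).resolve_right fun h => ?_
  refine h6 _ h.1 (by simp) (by simp) ?_ h.2 ?_
  · simp only [List.mem_cons, List.not_mem_nil, or_false, forall_eq_or_imp, forall_eq] at hm hm' ⊢
    exact ⟨hm.1, hm.2.1, hm.2.2, hm'.1, hm'.2.1, hm'.2.2⟩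
  · have sq : (a * b * c) * (a * b * c) = 1 := by
      have ha := Classes.sq hD (hm a (by simp))
      have hb := Classes.sq hD (hm b (by simp))
      have hc2 := Classes.sq hD (hm c (by simp))
      have c1 : Commute (a * b) c :=
        (hc a (by simp) c (by simp)).mul_left (hc b (by simp) c (by simp))
      rw [← pow_two, c1.mul_pow, (hc a (by simp) b (by simp)).mul_pow, pow_two, pow_two, pow_two,
        ha, hb, hc2, one_mul, one_mul]
    calc [a, b, c, x, y, z].prod = (a * b * c) * (x * y * z) := by simp [mul_assoc]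
      _ = 1 := by rw [hj', ← hj, sq]

end Cfsg.Agent.ThreeTransp.Factor
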