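import Cfsg.Agent.Lib.ThreeTransp.Factor.Indep

/-!
Members centralizing a product of at most three commuting members, and uniqueness of short
factorisations.
-/

set_option autoImplicit false

namespace Cfsg.Agent.ThreeTransp.Factor

open Cfsg.Agent.ThreeTransp

variable {G : Type*} [Group G] {D : Set G} (hD : Cfsg.IsThreeTranspositionGroup D)
include hD

theorem commute_each_two {a b e : G} (ha : a ∈ D) (hb : b ∈ D) (he : e ∈ D) (hne : a ≠ b)
    (hj : Commute e (a * b)) : Commute e a ∧ Commute e b := by
  by_cases hea : Commute e a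
  · refine ⟨hea, ?_⟩
    have h := hea.mul_right hj
    rwa [← mul_assoc, Classes.sq hD ha, one_mul] at h
  by_cases heb : Commute e b
  · refine absurd ?_ hea
    have h := hj.mul_right heb
    rwa [mul_assoc, Classes.sq hD hb, mul_one] at h
  exfalso
  have A := Basic.braid hD.1 he ha hea
  have B := Basic.braid hD.1 he hb heb
  have h1 : e * (a * b) * e = a * b := by
    rw [hj.eq, mul_assoc, Classes.sq hD he, mul_one]
  have h2 : (a * e * a) * (b * e * b) = a * b := by
    rw [← A, ← B]
    calc e * a * e * (e * b * e) = e * a * (e * e) * (b * e) := by simp [mul_assoc]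
      _ = a * b := by rw [Classes.sq hD he, mul_one, ← h1]; simp [mul_assoc]
  have h3 : e * a * b * e = 1 := by
    calc e * a * b * e = a⁻¹ * ((a * e * a) * (b * e * b)) * b⁻¹ := by group
      _ = 1 := by rw [h2]; group
  have h4 : a * b = 1 := by
    calc a * b = e⁻¹ * (e * a * b * e) * e⁻¹ := by group
      _ = e⁻¹ * e⁻¹ := by rw [h3, mul_one]
      _ = 1 := by rw [Classes.inv hD he, Classes.sq hD he]
  exact hne ((eq_inv_of_mul_eq_one_left h4).trans (Classes.inv hD hb))

theorem commute_each_three {a b c e : G} (ha : a ∈ D) (hb : b ∈ D) (hc : c ∈ D) (he : e ∈ D)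
    (hab : a ≠ b) (hac : a ≠ c) (hbc : b ≠ c) (cab : Commute a b) (cac : Commute a c)
    (cbc : Commute b c) (hj : Commute e (a * b * c)) :
    Commute e a ∧ Commute e b ∧ Commute e c := by
  by_cases hec : Commute e c
  · have h := hj.mul_right hec
    rw [mul_assoc, Classes.sq hD hc, mul_one] at h
    exact ⟨(commute_each_two hD ha hb he hab h).1, (commute_each_two hD ha hb he hab h).2, hec⟩
  by_cases hea : Commute e a
  · have h := hea.mul_right hj
    rw [← mul_assoc, ← mul_assoc, Classes.sq hD ha, one_mul] at h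
    exact absurd (commute_each_two hD hb hc he hbc h).2 hec
  by_cases heb : Commute e b
  · have h := heb.mul_right hj
    rw [show b * (a * b * c) = a * c by
      rw [← mul_assoc, ← mul_assoc, ← cab.eq, mul_assoc a b b, Classes.sq hD hb, mul_one]] at h
    exact absurd (commute_each_two hD ha hc he hac h).2 hec
  exfalso
  have A := Basic.braid hD.1 he ha hea
  have B := Basic.braid hD.1 he hb heb
  have C := Basic.braid hD.1 he hc hec
  have hse := Classes.sq hD he
  have h1 : e * (a * b * c) * e = a * b * c := by rw [hj.eq, mul_assoc, hse, mul_one]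
  have h2 : (a * e * a) * (b * e * b) * (c * e * c) = a * b * c := by
    rw [← A, ← B, ← C]
    calc e * a * e * (e * b * e) * (e * c * e)
        = e * a * (e * e) * b * (e * e) * (c * e) := by simp [mul_assoc]
      _ = a * b * c := by rw [hse, mul_one, mul_one, ← h1]; simp [mul_assoc]
  have h3 : e * a * b * e * b * c * e = b := by
    calc e * a * b * e * b * c * e
        = a⁻¹ * ((a * e * a) * (b * e * b) * (c * e * c)) * c⁻¹ := by group
      _ = b := by rw [h2]; group
  set f := b * e * b with hf
  have hfD : f ∈ D := Classes.conj_mem hD hb he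
  have h4 : a * f * c = f := by
    calc a * f * c = e⁻¹ * (e * a * b * e * b * c * e) * e⁻¹ := by rw [hf]; group
      _ = f := by rw [h3, Classes.inv hD he]; exact B
  by_cases hfc : Commute f c
  · refine hac ?_
    have h5 : a * c * f = f := by rw [mul_assoc, ← hfc.eq, ← mul_assoc]; exact h4
    have h6 : a * c = 1 := mul_eq_right.1 h5
    exact (eq_inv_of_mul_eq_one_left h6).trans (Classes.inv hD hc)
  have h5 : a = c * f * c := by
    calc a = (a * f * c) * c⁻¹ * f⁻¹ := by group
      _ = f * c * f := by rw [h4, Classes.inv hD hc, Classes.inv hD hfD]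
      _ = c * f * c := Basic.braid hD.1 hfD hc hfc
  have h7 : f = a := by
    calc f = c * (c * f * c) * c := by
          rw [show c * (c * f * c) * c = (c * c) * f * (c * c) by simp [mul_assoc],
            Classes.sq hD hc, one_mul, mul_one]
      _ = a := by rw [← h5, ← cac.eq, mul_assoc, Classes.sq hD hc, mul_one]
  refine hea ?_
  have h8 : e = a := by
    calc e = b * (b * e * b) * b := by
          rw [show b * (b * e * b) * b = (b * b) * e * (b * b) by simp [mul_assoc],
            Classes.sq hD hb, one_mul, mul_one]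
      _ = a := by rw [← hf, h7, ← cab.eq, mul_assoc, Classes.sq hD hb, mul_one]
  rw [h8]

/-- Two pairs of commuting members with the same product coincide. -/
theorem pair_unique (h4 : Rel 4 D) {a b x y : G} (ha : a ∈ D) (hb : b ∈ D) (hx : x ∈ D)
    (hy : y ∈ D) (hab : a ≠ b) (hxy : x ≠ y) (cab : Commute a b) (cxy : Commute x y)
    (he : a * b = x * y) : (x = a ∧ y = b) ∨ (x = b ∧ y = a) := by
  have hcx : Commute x a ∧ Commute x b := commute_each_two hD ha hb hx hab (by
    rw [he]; exact (Commute.refl x).mul_right cxy)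
  have hcy : Commute y a ∧ Commute y b := commute_each_two hD ha hb hy hab (by
    rw [he]; exact cxy.symm.mul_right (Commute.refl y))
  have ca : x = a → y = b := fun h => by subst h; exact (mul_left_cancel he).symm
  have cb : x = b → y = a := fun h => by
    subst h; rw [cab.eq] at he; exact (mul_left_cancel he).symm
  by_cases hxa : x = a
  · exact Or.inl ⟨hxa, ca hxa⟩
  by_cases hxb : x = b
  · exact Or.inr ⟨hxb, cb hxb⟩
  exfalso
  have hya : y ≠ a := fun h => by
    subst h; rw [cxy.eq] at he; exact hxb (mul_left_cancel he).symm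
  have hyb : y ≠ b := fun h => by subst h; exact hxa (mul_right_cancel he).symm
  refine h4 [a, b, x, y] ?_ (by simp) (by simp) ?_ ?_ ?_
  · simp [hab, hxy, Ne.symm hxa, Ne.symm hxb, Ne.symm hya, Ne.symm hyb]
  · simp [ha, hb, hx, hy]
  · simp [cab, cab.symm, cxy, cxy.symm, hcx.1, hcx.1.symm, hcx.2, hcx.2.symm, hcy.1, hcy.1.symm,
      hcy.2, hcy.2.symm]
  · calc [a, b, x, y].prod = (a * b) * (x * y) := by simp [mul_assoc]
      _ = 1 := by
        rw [← he, mul_assoc, ← mul_assoc b a b, ← cab.eq, mul_assoc a b b, Classes.sq hD hb,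
          mul_one, Classes.sq hD ha]

/-- A set of commuting members with the product of a triple either meets it in all or none. -/
theorem triple_share (h4 : Rel 4 D) {a b c x y z : G} (ha : a ∈ D) (hb : b ∈ D) (hc : c ∈ D)
    (hy : y ∈ D) (hz : z ∈ D) (hbc : b ≠ c) (hyz : y ≠ z) (cbc : Commute b c) (cyz : Commute y z)
    (he : a * b * c = x * y * z) (hxa : x = a) : (y = b ∧ z = c) ∨ (y = c ∧ z = b) := by
  subst hxa
  exact pair_unique hD h4 hb hc hy hz hbc hyz cbc cyz
    (mul_left_cancel (a := x) (by rw [← mul_assoc, ← mul_assoc]; exact he))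

end Cfsg.Agent.ThreeTransp.Factor

namespace Cfsg.Agent.ThreeTransp.Factor

open Cfsg.Agent.ThreeTransp

variable {G : Type*} [Group G] {D : Set G}

theorem Rel.mono {j k : ℕ} (h : Rel k D) (hjk : j ≤ k) : Rel j D :=
  fun l h1 h2 h3 => h l h1 h2 (h3.trans hjk)

/-- In a product of three, two triples with equal products share a member only if they coincide. -/
theorem triple_eq_of_mem (hD : Cfsg.IsThreeTranspositionGroup D) (h4 : Rel 4 D) {a b c x y z : G}
    (ha : a ∈ D) (hb : b ∈ D) (hc : c ∈ D) (hy : y ∈ D) (hz : z ∈ D) (hx : x ∈ D)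
    (hab : a ≠ b) (hac : a ≠ c) (hbc : b ≠ c) (hxy : x ≠ y) (hxz : x ≠ z) (hyz : y ≠ z)
    (cab : Commute a b) (cac : Commute a c) (cbc : Commute b c)
    (cxy : Commute x y) (cxz : Commute x z) (cyz : Commute y z)
    (he : a * b * c = x * y * z) (hshare : x = a ∨ x = b ∨ x = c) :
    ∀ w : G, (w = a ∨ w = b ∨ w = c) ↔ (w = x ∨ w = y ∨ w = z) := by
  intro w
  rcases hshare with h | h | h
  · obtain ⟨h1, h2⟩ | ⟨h1, h2⟩ := triple_share hD h4 ha hb hc hy hz hbc hyz cbc cyz he h
    all_goals subst h h1 h2; tauto
  · obtain ⟨h1, h2⟩ | ⟨h1, h2⟩ := triple_share hD h4 hb ha hc hy hz hac hyz cac cyz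
      (by rw [← cab.eq]; exact he) h
    all_goals subst h h1 h2; tauto
  · obtain ⟨h1, h2⟩ | ⟨h1, h2⟩ := triple_share hD h4 hc ha hb hy hz hab hyz cab cyz
      (by rw [mul_assoc c a b, ← (cac.mul_left cbc).eq]; exact he) h
    all_goals subst h h1 h2; tauto

end Cfsg.Agent.ThreeTransp.Factor
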