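import Cfsg.Agent.Lib.ThreeTransp.UnitaryClass
import Cfsg.Agent.Lib.ThreeTransp.UnitaryPoints
import Cfsg.Agent.Lib.Classical.UnitarySimple
import Cfsg.Agent.Lib.Classical.UnitaryCount
import Cfsg.Agent.Lib.ThreeTransp.Factor.Unique

/-!
Sets of 3-transpositions generating `PSU(6, 2)` consist of images of transvections; relations
between at most four commuting transvections; the five points of a line.
-/

set_option autoImplicit false
set_option linter.unusedSectionVars false

namespace Cfsg.Agent.ThreeTransp.Factor.UnitarySix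

open scoped commutatorElement
open Matrix Cfsg.Agent.Classical.Unitary
open Cfsg.Agent.Forms
open Cfsg.Agent.GroupStructure3.ThreeTransUnitary
open Cfsg.Agent.ThreeTransp

variable {F : Type*} [Field F] [Fintype F] (hF : Fintype.card F = 2 ^ 2)
include hF

local notation "Vec" => (Fin 6 → F)
local notation "H" => Cfsg.hermForm 6 F 2
local notation "SU6" => Cfsg.SU 6 F 2
local notation "q6" => QuotientGroup.mk' (Subgroup.center (Cfsg.SU 6 F 2))

/-- The diagonal element with entries `ω, ω², 1, 1, 1, 1`. -/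
theorem exists_diag : ∃ g : SU6, ∃ ω : F, ω ^ 2 + ω + 1 = 0 ∧
    ∀ x : Vec, mat g *ᵥ x = fun i => (![ω, ω ^ 2, 1, 1, 1, 1] : Vec) i * x i := by
  obtain ⟨ω, h3, hω, hω0⟩ := UnitaryPoints.exists_omega hF
  refine ⟨suMk (Matrix.diagonal ![ω, ω ^ 2, 1, 1, 1, 1]) ?_ ?_, ω, hω, fun x => ?_⟩
  · rw [Matrix.det_diagonal]
    simp [Fin.prod_univ_six, ← pow_succ', h3]
  · intro u v
    simp only [Cfsg.hermForm, Matrix.mulVec_diagonal, Fin.sum_univ_six, Matrix.cons_val]
    linear_combination (u 0 * v 0 ^ 2 + u 1 * v 1 ^ 2 * (ω ^ 3 + 1)) * h3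
  · rw [suMk_mulVec]
    funext i
    rw [Matrix.mulVec_diagonal]

theorem bad_elts : ∀ r, 2 ≤ r → 2 * r ≤ 6 → ∃ a b : SU6, orderOf a = 2 ∧ orderOf b = 2 ∧
    (((a : Matrix.SpecialLinearGroup (Fin 6) F) : Matrix (Fin 6) (Fin 6) F) - 1).rank = r ∧
    (((b : Matrix.SpecialLinearGroup (Fin 6) F) : Matrix (Fin 6) (Fin 6) F) - 1).rank = r ∧
    (a * b) ^ 2 ≠ 1 ∧ (a * b) ^ 3 ≠ 1 := by
  have ho : ∀ {ρ : Equiv.Perm (Fin 6)}, ρ ^ 2 = 1 → ρ ≠ 1 →
      orderOf (UnitaryClass.perm hF ρ) = 2 := by
    intro ρ h2 hne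
    rw [orderOf_injective _ (UnitaryClass.perm_injective hF), orderOf_eq_prime h2 hne]
  haveI := UnitaryClass.char_two hF
  intro r h2 h6
  obtain rfl | rfl : r = 2 ∨ r = 3 := by omega
  · exact ⟨UnitaryClass.perm hF (Equiv.swap 0 1 * Equiv.swap 2 3),
      UnitaryClass.perm hF (Equiv.swap 1 2 * Equiv.swap 3 4),
      ho (by decide) (by decide), ho (by decide) (by decide),
      UnitaryClass.rank_perm hF _ !![1, 0; 1, 0; 0, 1; 0, 1; 0, 0; 0, 0]
        !![1, 0, 0, 0, 0, 0; 0, 0, 1, 0, 0, 0] (by decide) (by decide),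
      UnitaryClass.rank_perm hF _ !![0, 0; 1, 0; 1, 0; 0, 1; 0, 1; 0, 0]
        !![0, 1, 0, 0, 0, 0; 0, 0, 0, 1, 0, 0] (by decide) (by decide),
      fun h => absurd (UnitaryClass.perm_injective hF (by rw [map_pow, map_mul, map_one, h]) :
        (Equiv.swap 0 1 * Equiv.swap 2 3 * (Equiv.swap 1 2 * Equiv.swap 3 4) :
          Equiv.Perm (Fin 6)) ^ 2 = 1) (by decide),
      fun h => absurd (UnitaryClass.perm_injective hF (by rw [map_pow, map_mul, map_one, h]) :
        (Equiv.swap 0 1 * Equiv.swap 2 3 * (Equiv.swap 1 2 * Equiv.swap 3 4) :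
          Equiv.Perm (Fin 6)) ^ 3 = 1) (by decide)⟩
  · obtain ⟨g, ω, hω, hg⟩ := exists_diag hF
    set a := UnitaryClass.perm hF (Equiv.swap (0 : Fin 6) 1 * Equiv.swap 2 3 * Equiv.swap 4 5)
      with ha
    set c := UnitaryClass.perm hF (Equiv.swap (1 : Fin 6) 2 * Equiv.swap 3 4 * Equiv.swap 0 5)
      with hc
    have hω0 : ω ≠ 0 := fun e => by simp [e] at hω
    have hω3 : ω ^ 3 = 1 := cube hF hω0
    have hgi : ∀ x : Vec, mat g⁻¹ *ᵥ x = fun i => (![ω ^ 2, ω, 1, 1, 1, 1] : Vec) i * x i := by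
      intro x
      refine inv_mulVec g ?_
      rw [hg]
      funext i
      fin_cases i <;> simp only [Fin.reduceFinMk, Fin.zero_eta, Fin.mk_one, Matrix.cons_val] <;>
        first
          | ring1
          | linear_combination x 0 * hω3
          | linear_combination x 1 * hω3
    have hpm : ∀ (σ : Equiv.Perm (Fin 6)) (x : Vec),
        mat (UnitaryClass.perm hF σ) *ᵥ x = x ∘ ⇑(σ⁻¹ : Equiv.Perm (Fin 6)) := fun σ x =>
      Matrix.permMatrix_mulVec _
    have hoc : orderOf c = 2 := ho (by decide) (by decide)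
    have hrc : (mat c - 1).rank = 3 := UnitaryClass.rank_perm hF _
      !![0, 0, 1; 1, 0, 0; 1, 0, 0; 0, 1, 0; 0, 1, 0; 0, 0, 1]
      !![0, 1, 0, 0, 0, 0; 0, 0, 0, 1, 0, 0; 0, 0, 0, 0, 0, 1] (by decide) (by decide)
    have hob : orderOf (g * c * g⁻¹) = 2 := by
      exact (MulEquiv.orderOf_eq (MulAut.conj g) c).trans hoc
    refine ⟨a, g * c * g⁻¹, ho (by decide) (by decide), hob,
      UnitaryClass.rank_perm hF _
        !![1, 0, 0; 1, 0, 0; 0, 1, 0; 0, 1, 0; 0, 0, 1; 0, 0, 1]
        !![1, 0, 0, 0, 0, 0; 0, 0, 1, 0, 0, 0; 0, 0, 0, 0, 1, 0] (by decide) (by decide),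
      ?_, ?_, ?_⟩
    · exact ((S2164.result hF (by omega) c _ hoc hob).2.1
        (isConj_iff.2 ⟨g, rfl⟩)).symm.trans hrc
    · intro h
      have e := congrArg (fun k => mat k *ᵥ (Pi.single (0 : Fin 6) (1 : F))) h
      simp only [pow_two, mul_mulVec, mat_one, one_mulVec, ha, hc, hpm, hgi, hg] at e
      have e' := congrFun e 0
      simp [Equiv.swap_apply_def] at e'
    · intro h
      have e := congrArg (fun k => mat k *ᵥ (Pi.single (0 : Fin 6) (1 : F))) h
      simp only [pow_succ, pow_zero, one_mul, mul_mulVec, mat_one, one_mulVec, ha, hc, hpm, hgi,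
        hg] at e
      have e' := congrFun e 0
      simp [Equiv.swap_apply_def] at e'
      have h1 : ω = 1 := by linear_combination e' - ω * hω3
      rw [h1] at hω
      exact one_ne_zero (show (1 : F) = 0 by linear_combination hω - two_zero hF)

/-- A class of 3-transpositions generating `SU(6, 2)` consists of transvections. -/
theorem class_eq {E : Set SU6} (hE : Cfsg.IsThreeTranspositionClass E) :
    ∀ d ∈ E, (((d : Matrix.SpecialLinearGroup (Fin 6) F) : Matrix (Fin 6) (Fin 6) F) - 1).rank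
      = 1 := by
  haveI := UnitaryClass.char_two hF
  intro d hd
  have hcl : ∀ e, e ∈ E ↔ IsConj d e := by
    obtain ⟨d₀, -, hd₀⟩ := hE.2.1
    intro e
    rw [hd₀] at hd ⊢
    exact ⟨fun he => hd.symm.trans he, fun he => hd.trans he⟩
  have hd2 : orderOf d = 2 := hE.1.1 d hd
  obtain ⟨r, hr⟩ : ∃ r,
      r = (((d : Matrix.SpecialLinearGroup (Fin 6) F) : Matrix (Fin 6) (Fin 6) F) - 1).rank :=
    ⟨_, rfl⟩
  rw [← hr]
  have hr0 : r ≠ 0 := by
    intro h0
    rw [h0, eq_comm, Matrix.rank, Submodule.finrank_eq_zero, LinearMap.range_eq_bot] at hr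
    have h1 : d = 1 := SU_ext fun x => by
      have h2 : (mat d - 1) *ᵥ x = 0 := by
        rw [← Matrix.mulVecLin_apply, hr, LinearMap.zero_apply]
      rw [mat_one, one_mulVec]
      rwa [sub_mulVec, one_mulVec, sub_eq_zero] at h2
    rw [h1, orderOf_one] at hd2
    exact absurd hd2 (by norm_num)
  have hle : 2 * r ≤ 6 := by
    have hdd : mat d * mat d = 1 := by
      rw [← mat_mul, Basic.mul_self_of_orderOf_two hd2, mat_one]
    have hN : (mat d - 1) * (mat d - 1) = 0 := by
      rw [sub_mul, mul_sub, one_mul, mul_one, hdd]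
      ext i j
      simp only [Matrix.sub_apply, Matrix.zero_apply]
      linear_combination ((1 : Matrix (Fin 6) (Fin 6) F) i j - mat d i j) * two_zero hF
    have := Matrix.rank_add_rank_le_card_of_mul_eq_zero hN
    rw [Fintype.card_fin] at this
    change r = (mat d - 1).rank at hr
    omega
  by_contra h1
  obtain ⟨a, b, ha, hb, hra, hrb, h2, h3⟩ := bad_elts hF r (by omega) hle
  have hin : ∀ e : SU6, orderOf e = 2 →
      (((e : Matrix.SpecialLinearGroup (Fin 6) F) : Matrix (Fin 6) (Fin 6) F) - 1).rank = r →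
      e ∈ E := fun e he her =>
    (hcl e).2 ((S2164.result hF (by omega) d e hd2 he).2.2 (hr.symm.trans her.symm))
  rcases hE.1.2 a (hin a ha hra) b (hin b hb hrb) with h | h
  · exact h2 h
  · exact h3 h

theorem simple_PSU : IsSimpleGroup (Cfsg.PSU 6 F 2) :=
  isSimpleGroup_PSU hF (by omega) (by omega)

theorem commutator_top : commutator SU6 = ⊤ :=
  commutator_SU_eq_top hF (by omega) (by omega)

theorem center_cube {z : SU6} (hz : z ∈ Subgroup.center SU6) : z ^ 3 = 1 := by
  obtain ⟨a, ha'⟩ := (mem_center_iff hF (by omega) z).1 hz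
  have ha : ∀ x : Vec, mat z *ᵥ x = a • x := fun x => by rw [ha', smul_mulVec, one_mulVec]
  have hpow : ∀ k : ℕ, ∀ x : Vec, mat (z ^ k) *ᵥ x = a ^ k • x := by
    intro k
    induction k with
    | zero => intro x; rw [pow_zero, pow_zero, mat_one, one_mulVec, one_smul]
    | succ k ih =>
      intro x
      rw [pow_succ, mul_mulVec, ha, Matrix.mulVec_smul, ih, smul_smul, pow_succ']
  have ha0 : a ≠ 0 := by
    rintro rfl
    have h := ha (Pi.single 0 1)
    rw [zero_smul] at h
    refine mat_mulVec_ne_zero z (x := Pi.single 0 1) (fun e => ?_) h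
    simpa using congrFun e 0
  refine SU_ext fun x => ?_
  rw [hpow, cube hF ha0, one_smul, mat_one, one_mulVec]

theorem center_eq_one_of_sq {z : SU6} (hz : z ∈ Subgroup.center SU6) (h2 : z * z = 1) : z = 1 := by
  have h3 := center_cube hF hz
  rwa [pow_succ, pow_two, h2, one_mul] at h3

/-- A power of a product of two involutions lying in the centre is trivial. -/
theorem prod_pow_eq_one {a b : SU6} (ha : a * a = 1) (hb : b * b = 1) {k : ℕ}
    (h : (a * b) ^ k ∈ Subgroup.center SU6) : (a * b) ^ k = 1 := by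
  refine center_eq_one_of_sq hF h ?_
  have hai : a⁻¹ = a := inv_eq_of_mul_eq_one_left ha
  have hbi : b⁻¹ = b := inv_eq_of_mul_eq_one_left hb
  have h1 : a * (a * b) ^ k * a⁻¹ = ((a * b) ^ k)⁻¹ := by
    rw [← conj_pow, ← inv_pow, _root_.mul_inv_rev, hai, hbi]
    congr 1
    rw [← mul_assoc a a b, ha, one_mul]
  rw [Subgroup.mem_center_iff.1 h a, mul_inv_cancel_right] at h1
  exact mul_eq_one_iff_eq_inv.2 h1

theorem commute_of_mk {a b : SU6} (ha : a * a = 1) (hb : b * b = 1)
    (h : Commute (q6 a) (q6 b)) : Commute a b := by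
  refine (Basic.sq_prod_eq_one_iff ha hb).1 (prod_pow_eq_one hF ha hb ?_)
  rw [← QuotientGroup.eq_one_iff]
  show q6 ((a * b) ^ 2) = 1
  rw [map_pow, map_mul, Basic.sq_prod_eq_one_iff (by rw [← map_mul, ha, map_one])
    (by rw [← map_mul, hb, map_one])]
  exact h

theorem tr_comm_of_mk {u v : Vec} (hu : H u u = 0) (hv : H v v = 0) (hu0 : u ≠ 0) (hv0 : v ≠ 0)
    (h : Commute (q6 (tr hF hu)) (q6 (tr hF hv))) : H u v = 0 :=
  (UnitaryPoints.tr_commute_iff hF hu hv hu0 hv0).1
    (commute_of_mk hF (tr_sq hF hu) (tr_sq hF hv) h)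

theorem tr_eq_of_mk {u v : Vec} (hu : H u u = 0) (hv : H v v = 0)
    (h : q6 (tr hF hu) = q6 (tr hF hv)) : tr hF hu = tr hF hv := by
  have hc : Commute (tr hF hu) (tr hF hv) :=
    commute_of_mk hF (tr_sq hF hu) (tr_sq hF hv) (by rw [h])
  have hsq : (tr hF hu)⁻¹ = tr hF hu := inv_eq_of_mul_eq_one_left (tr_sq hF hu)
  have h1 : (tr hF hu)⁻¹ * tr hF hv = 1 := by
    refine center_eq_one_of_sq hF (QuotientGroup.eq.1 h) ?_
    rw [hsq]
    calc tr hF hu * tr hF hv * (tr hF hu * tr hF hv)
        = tr hF hu * (tr hF hv * tr hF hu) * tr hF hv := by simp [mul_assoc]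
      _ = (tr hF hu * tr hF hu) * (tr hF hv * tr hF hv) := by rw [← hc.eq]; simp [mul_assoc]
      _ = 1 := by rw [tr_sq, tr_sq, one_mul]
  exact inv_mul_eq_one.1 h1

/-- A member of a class of 3-transpositions generating the projective group is a transvection. -/
theorem class_mem {E : Set (Cfsg.PSU 6 F 2)} (hE : Cfsg.IsThreeTranspositionGroup E)
    {x : Cfsg.PSU 6 F 2} (hx : x ∈ E) :
    ∀ s : SU6, orderOf s = 2 → IsConj x (q6 s) →
      (((s : Matrix.SpecialLinearGroup (Fin 6) F) : Matrix (Fin 6) (Fin 6) F) - 1).rank = 1 := by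
  haveI := simple_PSU hF
  intro s hs hxs
  have hCE : conjugatesOf (q6 s) ⊆ E := fun y hy => by
    obtain ⟨g, rfl⟩ := isConj_iff.1 (hxs.trans hy)
    exact hE.2.1 g x hx
  have hs2 := Basic.mul_self_of_orderOf_two hs
  have hne : q6 s ≠ 1 := fun h => by
    have h1 := hE.1.1 _ (hCE (IsConj.refl (q6 s)))
    rw [h, orderOf_one] at h1
    exact absurd h1 (by norm_num)
  set C : Set SU6 := conjugatesOf s with hC
  have hCmem : ∀ a ∈ C, orderOf a = 2 ∧ q6 a ∈ E := by
    intro a ha
    obtain ⟨g, rfl⟩ := isConj_iff.1 ha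
    refine ⟨?_, hCE (isConj_iff.2 ⟨q6 g, by simp⟩)⟩
    exact (MulEquiv.orderOf_eq (MulAut.conj g) s).trans hs
  have hset : Cfsg.IsThreeTranspositionSet C := by
    refine ⟨fun a ha => (hCmem a ha).1, fun a ha b hb => ?_⟩
    have a2 := Basic.mul_self_of_orderOf_two (hCmem a ha).1
    have b2 := Basic.mul_self_of_orderOf_two (hCmem b hb).1
    rcases hE.1.2 _ (hCmem a ha).2 _ (hCmem b hb).2 with h | h
    · exact Or.inl (prod_pow_eq_one hF a2 b2 ((QuotientGroup.eq_one_iff _).1 h))
    · exact Or.inr (prod_pow_eq_one hF a2 b2 ((QuotientGroup.eq_one_iff _).1 h))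
  have hgen : Subgroup.closure C = ⊤ := by
    set N := Subgroup.closure C with hN
    have hNn : N.Normal := by
      have e : C = Group.conjugatesOfSet {s} := by simp [hC, Group.conjugatesOfSet]
      rw [hN, e]
      exact inferInstanceAs (Subgroup.normalClosure {s}).Normal
    have hmap : N.map q6 = ⊤ := by
      haveI := hNn.map q6 (QuotientGroup.mk'_surjective _)
      refine (IsSimpleGroup.eq_bot_or_eq_top_of_normal _ inferInstance).resolve_left fun h => hne ?_
      rw [← Subgroup.mem_bot, ← h]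
      exact ⟨s, Subgroup.subset_closure (IsConj.refl s), rfl⟩
    rw [eq_top_iff, ← commutator_top hF, commutator_def, Subgroup.commutator_le]
    intro a _ b _
    obtain ⟨m, hm, hma⟩ : q6 a ∈ N.map q6 := hmap ▸ Subgroup.mem_top _
    obtain ⟨n, hn, hnb⟩ : q6 b ∈ N.map q6 := hmap ▸ Subgroup.mem_top _
    have hza : m⁻¹ * a ∈ Subgroup.center SU6 := QuotientGroup.eq.1 hma
    have hzb : n⁻¹ * b ∈ Subgroup.center SU6 := QuotientGroup.eq.1 hnb
    have e : ⁅a, b⁆ = ⁅m, n⁆ := by
      obtain ⟨z, hz, rfl⟩ : ∃ z ∈ Subgroup.center SU6, a = m * z := ⟨_, hza, by group⟩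
      obtain ⟨w, hw, rfl⟩ : ∃ w ∈ Subgroup.center SU6, b = n * w := ⟨_, hzb, by group⟩
      have z1 := Subgroup.mem_center_iff.1 hz
      have w1 := Subgroup.mem_center_iff.1 hw
      simp only [commutatorElement_def, _root_.mul_inv_rev]
      calc m * z * (n * w) * (z⁻¹ * m⁻¹) * (w⁻¹ * n⁻¹)
          = m * (z * (n * w) * z⁻¹) * m⁻¹ * w⁻¹ * n⁻¹ := by group
        _ = m * (n * w) * m⁻¹ * w⁻¹ * n⁻¹ := by rw [← z1, mul_inv_cancel_right]
        _ = m * n * (w * m⁻¹ * w⁻¹) * n⁻¹ := by group
        _ = m * n * m⁻¹ * n⁻¹ := by rw [← w1, mul_inv_cancel_right]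
    rw [e, commutatorElement_def]
    exact N.mul_mem (N.mul_mem (N.mul_mem hm hn) (N.inv_mem hm)) (N.inv_mem hn)
  exact class_eq hF (E := C) ⟨hset, ⟨s, IsConj.refl s, rfl⟩, hgen⟩ s (IsConj.refl s)

theorem exists_vec {E : Set (Cfsg.PSU 6 F 2)} (hE : Cfsg.IsThreeTranspositionGroup E)
    {x : Cfsg.PSU 6 F 2} (hx : x ∈ E) :
    ∃ (v : Vec) (hv : H v v = 0), v ≠ 0 ∧ x = q6 (tr hF hv) := by
  obtain ⟨g, rfl⟩ := QuotientGroup.mk'_surjective _ x
  have hg2 : g * g ∈ Subgroup.center SU6 := by
    rw [← QuotientGroup.eq_one_iff]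
    show q6 (g * g) = 1
    rw [map_mul]
    exact Basic.sq hE.1 hx
  have hqs : q6 (g ^ 3) = q6 g := by
    rw [map_pow, pow_succ, pow_two, Basic.sq hE.1 hx, one_mul]
  have hs2 : g ^ 3 * g ^ 3 = 1 := by
    rw [← pow_add, show 3 + 3 = 2 * 3 by rfl, pow_mul, pow_two, center_cube hF hg2]
  have hs1 : g ^ 3 ≠ 1 := fun h => by
    rw [h, map_one] at hqs
    exact Basic.ne_one hE.1 hx hqs.symm
  have hord : orderOf (g ^ 3) = 2 := orderOf_eq_prime (by rw [pow_two, hs2]) hs1
  have hr := class_mem hF hE hx _ hord (by rw [hqs])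
  obtain ⟨v, hv, hv0, hgv⟩ := (rank_one_iff hF _).1 hr
  exact ⟨v, hv, hv0, by rw [← hgv, hqs]⟩

/-- A vector outside the span of a set is separated from it. -/
theorem exists_sep {S : Set Vec} {v : Vec} (hv : v ∉ Submodule.span F S) :
    ∃ x : Vec, (∀ w ∈ S, H x w = 0) ∧ H x v = 1 := by
  classical
  obtain ⟨φ, hφv, hφS⟩ := Submodule.exists_dual_map_eq_bot_of_notMem hv inferInstance
  have hφw : ∀ w ∈ S, φ w = 0 := fun w hw => by
    have := Submodule.mem_map_of_mem (f := φ) (Submodule.subset_span hw)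
    rw [hφS, Submodule.mem_bot] at this
    exact this
  set c := (φ v)⁻¹
  refine ⟨fun i => c ^ 2 * φ (Pi.single i 1) ^ 2, ?_, ?_⟩
  all_goals
    have key : ∀ w : Vec, H (fun i => c ^ 2 * φ (Pi.single i 1) ^ 2) w = (c * φ w) ^ 2 := by
      intro w
      have := UnitaryClass.char_two hF
      conv_rhs => rw [pi_eq_sum_univ' w, map_sum, Finset.mul_sum, sum_pow_char (p := 2)]
      simp only [Cfsg.hermForm, map_smul, smul_eq_mul, mul_pow]
      refine Finset.sum_congr rfl fun i _ => ?_
      ring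
  · intro w hw; rw [key, hφw w hw, mul_zero, zero_pow two_ne_zero]
  · rw [key, inv_mul_cancel₀ hφv, one_pow]

omit hF in
theorem mem_span_one {u v : Vec} (h : v ∈ Submodule.span F ({u} : Set Vec)) :
    ∃ a : F, v = a • u := by
  obtain ⟨a, ha⟩ := Submodule.mem_span_singleton.1 h
  exact ⟨a, ha.symm⟩

omit hF in
theorem mem_span_two {u w v : Vec} (h : v ∈ Submodule.span F ({u, w} : Set Vec)) :
    ∃ a b : F, v = a • u + b • w := by
  obtain ⟨a, b, hab⟩ := Submodule.mem_span_pair.1 h
  exact ⟨a, b, hab.symm⟩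

theorem tr_eq_of_smul {u v : Vec} (hu : H u u = 0) (hv : H v v = 0) (hv0 : v ≠ 0) {a : F}
    (h : v = a • u) : tr hF hv = tr hF hu := by
  have ha : a ≠ 0 := fun e => hv0 (by rw [h, e, zero_smul])
  subst h
  exact tr_smul hF hu ha hv

theorem prod_mulVec (l : List {v : Vec // H v v = 0})
    (hc : ∀ a ∈ l, ∀ b ∈ l, H a.1 b.1 = 0) (x : Vec) :
    mat ((l.map fun v => tr hF v.2).prod) *ᵥ x = x + (l.map fun v => H x v.1 • v.1).sum := by
  induction l with
  | nil => simp [mat_one]
  | cons a t ih =>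
    simp only [List.map_cons, List.prod_cons, List.sum_cons, mul_mulVec]
    rw [ih (fun p hp q hq => hc p (by simp [hp]) q (by simp [hq])), tr_mulVec, H_add_left]
    have hz : H ((t.map fun v => H x v.1 • v.1).sum) a.1 = 0 := by
      clear ih
      induction t with
      | nil => simp [H_zero_left]
      | cons b t iht =>
        simp only [List.map_cons, List.sum_cons]
        rw [H_add_left, H_smul_left, hc b (by simp) a (by simp), mul_zero, zero_add]
        exact iht (fun p hp q hq => hc p (by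
          rcases List.mem_cons.1 hp with h | h <;> simp [h]) q (by
          rcases List.mem_cons.1 hq with h | h <;> simp [h]))
    rw [hz, add_zero]
    abel

/-- At most four points with a trivial relation do not exist. -/
theorem no_relation (l : List {v : Vec // H v v = 0}) (h1 : 1 ≤ l.length) (h4 : l.length ≤ 4)
    (h0 : ∀ a ∈ l, a.1 ≠ 0) (hpr : l.Pairwise fun a b => ∀ c : F, b.1 ≠ c • a.1)
    (hrel : ∀ x : Vec, (l.map fun v => H x v.1 • v.1).sum = 0) : False := by
  have c3 : ∀ a : F, a ≠ 0 → a ^ 2 * a = 1 := fun a ha => by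
    rw [← pow_succ]; exact cube hF ha
  have h2 : (1 : F) + 1 = 0 := by linear_combination two_zero hF
  rcases l with - | ⟨a, - | ⟨b, - | ⟨c, - | ⟨d, - | ⟨e, t⟩⟩⟩⟩⟩
  · simp at h1
  · have hva : a.1 ∉ Submodule.span F (∅ : Set Vec) := by
      rw [Submodule.span_empty, Submodule.mem_bot]; exact h0 a (by simp)
    obtain ⟨x, -, hxa⟩ := exists_sep hF hva
    have h := hrel x
    simp [hxa] at h
    exact h0 a (by simp) h
  · simp only [List.pairwise_cons, List.mem_singleton, forall_eq, List.not_mem_nil,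
      IsEmpty.forall_iff, implies_true, List.Pairwise.nil, and_true] at hpr
    have hb : b.1 ∉ Submodule.span F ({a.1} : Set Vec) := fun h => by
      obtain ⟨k, hk⟩ := mem_span_one h; exact hpr k hk
    obtain ⟨x, hx, hxb⟩ := exists_sep hF hb
    have h := hrel x
    simp [hxb, hx a.1 (by simp)] at h
    exact h0 b (by simp) h
  · simp only [List.pairwise_cons, List.mem_cons, List.not_mem_nil, or_false, forall_eq_or_imp,
      forall_eq, IsEmpty.forall_iff, implies_true, List.Pairwise.nil, and_true] at hpr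
    obtain ⟨⟨hab, hac⟩, hbc⟩ := hpr
    by_cases hc : c.1 ∈ Submodule.span F ({a.1, b.1} : Set Vec)
    · obtain ⟨p, q, hpq⟩ := mem_span_two hc
      have hp : p ≠ 0 := fun e => hbc q (by rw [hpq, e, zero_smul, zero_add])
      have hq : q ≠ 0 := fun e => hac p (by rw [hpq, e, zero_smul, add_zero])
      have hb : b.1 ∉ Submodule.span F ({a.1} : Set Vec) := fun h => by
        obtain ⟨k, hk⟩ := mem_span_one h; exact hab k hk
      obtain ⟨x, hx, hxb⟩ := exists_sep hF hb
      have hxa := hx a.1 (by simp)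
      have hxc : H x c.1 = q ^ 2 := by
        rw [hpq, H_add_right hF, H_smul_right, H_smul_right, hxa, hxb, mul_zero, zero_add, mul_one]
      have h := hrel x
      simp [hxa, hxb, hxc] at h
      rw [hpq, smul_add, smul_smul, smul_smul, c3 q hq, one_smul] at h
      have h' : (q ^ 2 * p) • a.1 = 0 := by
        have e : (q ^ 2 * p) • a.1 + ((1 : F) + 1) • b.1 = 0 := by rw [← h, add_smul, one_smul]; abel
        rwa [h2, zero_smul, add_zero] at e
      exact mul_ne_zero (pow_ne_zero _ hq) hp ((smul_eq_zero.1 h').resolve_right (h0 a (by simp)))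
    · obtain ⟨x, hx, hxc⟩ := exists_sep hF hc
      have h := hrel x
      simp [hx a.1 (by simp), hx b.1 (by simp), hxc] at h
      exact h0 c (by simp) h
  · simp only [List.pairwise_cons, List.mem_cons, List.not_mem_nil, or_false, forall_eq_or_imp,
      forall_eq, IsEmpty.forall_iff, implies_true, List.Pairwise.nil, and_true] at hpr
    obtain ⟨⟨hab, hac, had⟩, ⟨hbc, hbd⟩, hcd⟩ := hpr
    by_cases hd : d.1 ∈ Submodule.span F ({a.1, b.1, c.1} : Set Vec)
    swap
    · obtain ⟨x, hx, hxd⟩ := exists_sep hF hd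
      have h := hrel x
      simp [hx a.1 (by simp), hx b.1 (by simp), hx c.1 (by simp), hxd] at h
      exact h0 d (by simp) h
    obtain ⟨r, z, hz, hdr⟩ : ∃ (r : F) (z : Vec), z ∈ Submodule.span F ({b.1, c.1} : Set Vec) ∧
        d.1 = r • a.1 + z := by
      obtain ⟨r, z, hz, hdr⟩ := Submodule.mem_span_insert.1 hd
      exact ⟨r, z, hz, hdr⟩
    obtain ⟨s, t, rfl⟩ := mem_span_two hz
    by_cases hc : c.1 ∈ Submodule.span F ({a.1, b.1} : Set Vec)
    · obtain ⟨p, q, hpq⟩ := mem_span_two hc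
      have hd' : d.1 = (r + t * p) • a.1 + (s + t * q) • b.1 := by
        rw [hdr, hpq]; module
      generalize r + t * p = P, s + t * q = Q' at hd'
      have hp : p ≠ 0 := fun e => hbc q (by rw [hpq, e, zero_smul, zero_add])
      have hP : P ≠ 0 := fun e => hbd Q' (by rw [hd', e, zero_smul, zero_add])
      have ha : a.1 ∉ Submodule.span F ({b.1} : Set Vec) := fun h => by
        obtain ⟨k, hk⟩ := mem_span_one h
        have hk0 : k ≠ 0 := fun e => h0 a (by simp) (by rw [hk, e, zero_smul])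
        exact hab k⁻¹ (by rw [hk, smul_smul, inv_mul_cancel₀ hk0, one_smul])
      obtain ⟨x, hx, hxa⟩ := exists_sep hF ha
      have hxb := hx b.1 (by simp)
      have hxc : H x c.1 = p ^ 2 := by
        rw [hpq, H_add_right hF, H_smul_right, H_smul_right, hxa, hxb, mul_zero, add_zero, mul_one]
      have hxd : H x d.1 = P ^ 2 := by
        rw [hd', H_add_right hF, H_smul_right, H_smul_right, hxa, hxb, mul_zero, add_zero, mul_one]
      have h := hrel x
      simp [hxa, hxb, hxc, hxd] at h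
      rw [hpq, hd', smul_add, smul_add, smul_smul, smul_smul, smul_smul, smul_smul, c3 p hp,
        c3 P hP] at h
      refine ha (Submodule.mem_span_singleton.2 ⟨-(p ^ 2 * q + P ^ 2 * Q'), ?_⟩)
      have e : a.1 + (p ^ 2 * q + P ^ 2 * Q') • b.1 + ((1 : F) + 1) • a.1 = 0 := by
        rw [← h]; module
      rw [h2, zero_smul, add_zero] at e
      rw [neg_smul]
      exact (eq_neg_of_add_eq_zero_left e).symm
    · obtain ⟨x, hx, hxc⟩ := exists_sep hF hc
      have hxa := hx a.1 (by simp)
      have hxb := hx b.1 (by simp)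
      have hxd : H x d.1 = t ^ 2 := by
        rw [hdr, H_add_right hF, H_add_right hF, H_smul_right, H_smul_right, H_smul_right, hxa,
          hxb, hxc, mul_zero, mul_zero, zero_add, zero_add, mul_one]
      have h := hrel x
      simp [hxa, hxb, hxc, hxd] at h
      by_cases ht : t = 0
      · simp [ht] at h
        exact h0 c (by simp) h
      rw [hdr, smul_add, smul_add, smul_smul, smul_smul, smul_smul, c3 t ht] at h
      have e : (t ^ 2 * r) • a.1 + (t ^ 2 * s) • b.1 + ((1 : F) + 1) • c.1 = 0 := by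
        rw [← h]; module
      rw [h2, zero_smul, add_zero] at e
      by_cases hr : r = 0
      · by_cases hs : s = 0
        · exact hcd t (by rw [hdr, hr, hs, zero_smul, zero_add, zero_smul, zero_add])
        · rw [hr, mul_zero, zero_smul, zero_add] at e
          exact h0 b (by simp) ((smul_eq_zero.1 e).resolve_left (mul_ne_zero (pow_ne_zero _ ht) hs))
      · refine hab 0 ?_
        rw [zero_smul]
        by_cases hs : s = 0
        · rw [hs, mul_zero, zero_smul, add_zero] at e
          exact absurd ((smul_eq_zero.1 e).resolve_left (mul_ne_zero (pow_ne_zero _ ht) hr))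
            (h0 a (by simp))
        · refine absurd ?_ (hab ((t ^ 2 * r) / (t ^ 2 * s) * -1))
          have hts := mul_ne_zero (pow_ne_zero 2 ht) hs
          have e' : (t ^ 2 * s) • b.1 = -((t ^ 2 * r) • a.1) := eq_neg_of_add_eq_zero_right e
          calc b.1 = (t ^ 2 * s)⁻¹ • ((t ^ 2 * s) • b.1) := (inv_smul_smul₀ hts _).symm
            _ = _ := by rw [e']; module
  · simp at h4; omega

/-- Four relations in a generating set of 3-transpositions of the projective group. -/
theorem rel_four {E : Set (Cfsg.PSU 6 F 2)} (hE : Cfsg.IsThreeTranspositionGroup E) :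
    Rel 4 E := by
  intro l hnd h1 h4 hmem hcomm hprod
  have key : ∀ l : List (Cfsg.PSU 6 F 2), (∀ a ∈ l, a ∈ E) →
      ∃ m : List {v : Vec // H v v = 0}, (∀ a ∈ m, a.1 ≠ 0) ∧
        m.map (fun v => q6 (tr hF v.2)) = l := by
    intro l
    induction l with
    | nil => exact fun _ => ⟨[], by simp, rfl⟩
    | cons s t ih =>
      intro h
      obtain ⟨v, hv, hv0, rfl⟩ := exists_vec hF hE (h s (by simp))
      obtain ⟨m, hm, rfl⟩ := ih fun a ha => h a (by simp [ha])
      exact ⟨⟨v, hv⟩ :: m, by simpa [hv0] using hm, rfl⟩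
  obtain ⟨m, hm0, rfl⟩ := key l hmem
  have hH : ∀ a ∈ m, ∀ b ∈ m, H a.1 b.1 = 0 := fun a ha b hb =>
    tr_comm_of_mk hF a.2 b.2 (hm0 a ha) (hm0 b hb)
      (hcomm _ (List.mem_map_of_mem ha) _ (List.mem_map_of_mem hb))
  refine no_relation hF m (by simpa using h1) (by simpa using h4) hm0 ?_ fun x => ?_
  · rw [List.pairwise_iff_forall_sublist]
    intro a b hab c hc
    have hp := List.pairwise_iff_forall_sublist.1 (List.pairwise_map.1 hnd) hab
    refine hp ?_
    rw [tr_eq_of_smul hF a.2 b.2 (hm0 b (hab.subset (by simp))) hc]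
  · set P := (m.map fun v => tr hF v.2).prod with hP
    have hPc : P ∈ Subgroup.center SU6 := by
      rw [← QuotientGroup.eq_one_iff]
      show q6 P = 1
      rw [hP, map_list_prod, List.map_map]
      exact hprod
    have hPP : P * P = 1 := by
      refine SU_ext fun y => ?_
      have hs := prod_mulVec hF m hH
      rw [← hP] at hs
      rw [mul_mulVec, mat_one, one_mulVec, hs, hs]
      have hz : (m.map fun v => H ((m.map fun w => H y w.1 • w.1).sum) v.1 • v.1).sum = 0 := by
        refine List.sum_eq_zero fun w hw => ?_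
        obtain ⟨v, hv, rfl⟩ := List.mem_map.1 hw
        have : ∀ k : List {v : Vec // H v v = 0}, (∀ a ∈ k, H a.1 v.1 = 0) →
            H ((k.map fun w => H y w.1 • w.1).sum) v.1 = 0 := by
          intro k
          induction k with
          | nil => intro _; simp [H_zero_left]
          | cons b t ih =>
            intro hk
            simp only [List.map_cons, List.sum_cons]
            rw [H_add_left, H_smul_left, hk b (by simp), mul_zero, zero_add,
              ih fun a ha => hk a (by simp [ha])]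
        rw [this m fun a ha => hH a ha v hv, zero_smul]
      generalize hS : (m.map fun w => H y w.1 • w.1).sum = S at hz ⊢
      have hlin : (m.map fun v => H (y + S) v.1 • v.1).sum =
          S + (m.map fun v => H S v.1 • v.1).sum := by
        rw [← hS, ← List.sum_map_add]
        simp only [H_add_left, add_smul]
      rw [hlin, hz, add_zero]
      have : y + S + S = y + ((1 : F) + 1) • S := by module
      rw [this, show (1 : F) + 1 = 0 by linear_combination two_zero hF, zero_smul, add_zero]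
    have h1' := center_eq_one_of_sq hF hPc hPP
    have hs := prod_mulVec hF m hH x
    rw [← hP, h1', mat_one, one_mulVec] at hs
    exact left_eq_add.1 hs

/-- The three further points of the line through two orthogonal points. -/
theorem line {E : Set (Cfsg.PSU 6 F 2)} (hE : Cfsg.IsThreeTranspositionGroup E)
    {b c : Cfsg.PSU 6 F 2} (hb : b ∈ E) (hc : c ∈ E) (hbc : b ≠ c) (hcom : Commute b c) :
    ∃ x y z : Cfsg.PSU 6 F 2, x ∈ E ∧ y ∈ E ∧ z ∈ E ∧ [b, c, x, y, z].Nodup ∧
      (∀ f ∈ E, Commute f b → Commute f c → Commute f x ∧ Commute f y ∧ Commute f z) ∧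
      b * c * x * y * z = 1 ∧
      ∀ q ∈ E, Commute q b → Commute q c → (∀ f ∈ E, Commute f b → Commute f c → Commute f q) →
        q = b ∨ q = c ∨ q = x ∨ q = y ∨ q = z := by
  haveI := simple_PSU hF
  obtain ⟨u, hu, hu0, rfl⟩ := exists_vec hF hE hb
  obtain ⟨v, hv, hv0, rfl⟩ := exists_vec hF hE hc
  have huv := tr_comm_of_mk hF hu hv hu0 hv0 hcom
  have hvu : H v u = 0 := (H_eq_zero_comm hF).1 huv
  have hiso : ∀ k : F, H (u + k • v) (u + k • v) = 0 := fun k => by
    simp [H_add_left, H_add_right hF, H_smul_left, H_smul_right, hu, hv, huv, hvu]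
  have hnp : ∀ k : F, v ≠ k • u := fun k e =>
    hbc (by rw [tr_eq_of_smul hF hu hv hv0 e])
  have hne : ∀ k : F, u + k • v ≠ 0 := fun k e => by
    by_cases hk : k = 0
    · rw [hk, zero_smul, add_zero] at e; exact hu0 e
    · exact hnp (-k⁻¹) (by
        rw [eq_neg_of_add_eq_zero_left e, smul_neg, neg_smul, neg_neg, smul_smul,
          inv_mul_cancel₀ hk, one_smul])
  have hmem : ∀ {w : Vec} (hw : H w w = 0), w ≠ 0 → q6 (tr hF hw) ∈ E := by
    intro w hw hw0
    obtain ⟨d, hd, hd'⟩ : ∃ d : SU6, d = tr hF hu ∧ q6 d ∈ E := ⟨_, rfl, hb⟩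
    subst hd
    have h3 := three_class (n := 6) hF (by omega)
    obtain ⟨e, he, hcl⟩ := h3.2.1
    have h1 : IsConj e (tr hF hu) := by
      have hm := (rank_one_iff hF (tr hF hu)).2 ⟨u, hu, hu0, rfl⟩
      exact (Set.ext_iff.1 hcl _).1 hm
    have h2 : IsConj e (tr hF hw) := by
      have hm := (rank_one_iff hF (tr hF hw)).2 ⟨w, hw, hw0, rfl⟩
      exact (Set.ext_iff.1 hcl _).1 hm
    obtain ⟨g, hg⟩ := isConj_iff.1 (h1.symm.trans h2)
    rw [← hg, map_mul, map_mul, map_inv]
    exact hE.2.1 _ _ hd'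
  obtain ⟨ω, h3, hω, hω0⟩ := UnitaryPoints.exists_omega hF
  have h2 : (1 : F) + 1 = 0 := by linear_combination two_zero hF
  have hω2 : ω ^ 2 ≠ 0 := pow_ne_zero _ hω0
  have h1ω : (1 : F) ≠ ω := fun e => by
    rw [← e] at hω
    have : (1 : F) = 0 := by linear_combination hω - h2
    exact one_ne_zero this
  have h1ω2 : (1 : F) ≠ ω ^ 2 := fun e => by
    apply hω0
    linear_combination hω - h2 + e
  have hωω2 : ω ≠ ω ^ 2 := fun e => h1ω (by
    have : ω * 1 = ω * ω := by rw [mul_one, ← pow_two]; exact e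
    exact mul_left_cancel₀ hω0 this)
  have hdist : ∀ {p r : Vec} (hp : H p p = 0) (hr : H r r = 0), p ≠ 0 → r ≠ 0 →
      (∀ k : F, r ≠ k • p) → q6 (tr hF hp) ≠ q6 (tr hF hr) := by
    intro p r hp hr hp0 hr0 hne' e
    have e' := tr_eq_of_mk hF hp hr e
    obtain ⟨x, -, hx⟩ := exists_sep hF (S := ∅) (v := r) (by simpa using hr0)
    have e'' := congrArg (fun g => mat g *ᵥ x) e'
    simp only [tr_mulVec, hx, one_smul, add_right_inj] at e''
    exact hne' (H x p) e''.symm
  have hpt : ∀ k k' : F, k ≠ k' → ∀ s : F, u + k' • v ≠ s • (u + k • v) := by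
    intro k k' hkk s e
    by_cases hs : s = 1
    · rw [hs, one_smul, add_right_inj] at e
      exact hv0 ((smul_eq_zero.1 (show (k' - k) • v = 0 by rw [sub_smul, e, sub_self])).resolve_left
        (sub_ne_zero.2 (Ne.symm hkk)))
    · have e1 : (1 - s) • u = (s * k - k') • v := by
        linear_combination (norm := module) e
      by_cases hsk : s * k - k' = 0
      · rw [hsk, zero_smul] at e1
        exact hu0 ((smul_eq_zero.1 e1).resolve_left (sub_ne_zero.2 (Ne.symm hs)))
      · exact hnp ((s * k - k')⁻¹ * (1 - s)) (by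
          rw [mul_smul, e1, smul_smul, inv_mul_cancel₀ hsk, one_smul])
  have hu_pt : ∀ k : F, k ≠ 0 → ∀ s : F, u + k • v ≠ s • u := fun k hk s e => by
    refine hpt 0 k (Ne.symm hk) s ?_
    rw [zero_smul, add_zero]; exact e
  have hv_pt : ∀ k : F, ∀ s : F, u + k • v ≠ s • v := fun k s e => by
    by_cases hsk : s - k = 0
    · apply hu0
      have : u = (s - k) • v := by linear_combination (norm := module) e
      rw [this, hsk, zero_smul]
    · refine hnp (s - k)⁻¹ ?_
      have : u = (s - k) • v := by linear_combination (norm := module) e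
      rw [this, inv_smul_smul₀ hsk]
  refine ⟨q6 (tr hF (hiso 1)), q6 (tr hF (hiso ω)), q6 (tr hF (hiso (ω ^ 2))),
    hmem _ (hne 1), hmem _ (hne ω), hmem _ (hne (ω ^ 2)), ?_, ?_, ?_, ?_⟩
  · simp only [List.nodup_cons, List.mem_cons, List.not_mem_nil, or_false, not_or, List.nodup_nil,
      and_true]
    exact ⟨⟨hbc, hdist hu _ hu0 (hne _) (hu_pt 1 one_ne_zero), hdist hu _ hu0 (hne _) (hu_pt ω hω0),
      hdist hu _ hu0 (hne _) (hu_pt _ hω2)⟩, ⟨hdist hv _ hv0 (hne _) (hv_pt 1),
      hdist hv _ hv0 (hne _) (hv_pt ω), hdist hv _ hv0 (hne _) (hv_pt _)⟩,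
      ⟨hdist _ _ (hne _) (hne _) (hpt 1 ω h1ω), hdist _ _ (hne _) (hne _) (hpt 1 _ h1ω2)⟩,
      hdist _ _ (hne _) (hne _) (hpt ω _ hωω2), not_false⟩
  · intro f hf hfb hfc
    obtain ⟨w, hw, hw0, rfl⟩ := exists_vec hF hE hf
    have a1 := tr_comm_of_mk hF hw hu hw0 hu0 hfb
    have a2 := tr_comm_of_mk hF hw hv hw0 hv0 hfc
    have : ∀ k : F, Commute (q6 (tr hF hw)) (q6 (tr hF (hiso k))) := fun k =>
      ((UnitaryPoints.tr_commute_iff hF hw (hiso k) hw0 (hne k)).2 (by
        rw [H_add_right hF, H_smul_right, a1, a2, mul_zero, add_zero])).map _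
    exact ⟨this 1, this ω, this _⟩
  · rw [← map_mul, ← map_mul, ← map_mul, ← map_mul]
    refine (congrArg q6 (SU_ext fun x => ?_)).trans (map_one q6)
    simp only [mul_mulVec, tr_mulVec, mat_one, one_mulVec, H_add_left, H_smul_left,
      H_add_right hF, H_smul_right, hu, hv, huv, hvu, mul_zero, add_zero, zero_mul, zero_add,
      smul_zero, zero_smul]
    match_scalars
    · ring1
    · linear_combination (2 * H x u) * h2 + H x v * hω + H x v * ω * h3
    · linear_combination H x u * hω + H x v * (ω ^ 3 + 2) * h3 + (2 * H x v) * h2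
  · intro q hq hqb hqc hall
    obtain ⟨w, hw, hw0, rfl⟩ := exists_vec hF hE hq
    have a1 := tr_comm_of_mk hF hw hu hw0 hu0 hqb
    have a2 := tr_comm_of_mk hF hw hv hw0 hv0 hqc
    have hspan : w ∈ Submodule.span F ({u, v} : Set Vec) := by
      by_contra hns
      obtain ⟨x, hx, hxw⟩ := exists_sep hF hns
      have hwx : H w x = 1 := by rw [← H_conj hF, hxw, one_pow]
      obtain ⟨t, htu, htv, htt, htw⟩ :
          ∃ t : Vec, H t u = 0 ∧ H t v = 0 ∧ H t t = 0 ∧ H t w = 1 := by
        rcases UnitaryPoints.norm_cases hF x with hxx | hxx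
        · exact ⟨x, hx u (by simp), hx v (by simp), hxx, hxw⟩
        · refine ⟨x + ω • w, ?_, ?_, ?_, ?_⟩
          · rw [H_add_left, H_smul_left, hx u (by simp), a1, mul_zero, add_zero]
          · rw [H_add_left, H_smul_left, hx v (by simp), a2, mul_zero, add_zero]
          · simp only [H_add_left, H_add_right hF, H_smul_left, H_smul_right, hxx, hxw, hwx, hw]
            linear_combination hω
          · rw [H_add_left, H_smul_left, hxw, hw, mul_zero, add_zero]
      have ht0 : t ≠ 0 := fun e => by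
        rw [e, H_zero_left] at htw; exact one_ne_zero htw.symm
      have hc1 := hall _ (hmem htt ht0)
        (((UnitaryPoints.tr_commute_iff hF htt hu ht0 hu0).2 htu).map _)
        (((UnitaryPoints.tr_commute_iff hF htt hv ht0 hv0).2 htv).map _)
      exact one_ne_zero (htw.symm.trans (tr_comm_of_mk hF htt hw ht0 hw0 hc1))
    obtain ⟨α, β, hαβ⟩ := mem_span_two hspan
    by_cases hα : α = 0
    · right; left
      rw [tr_eq_of_smul hF hv hw hw0 (by rw [hαβ, hα, zero_smul, zero_add])]
    by_cases hβ : β = 0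
    · left
      rw [tr_eq_of_smul hF hu hw hw0 (by rw [hαβ, hβ, zero_smul, add_zero])]
    have hk : w = α • (u + (β / α) • v) := by
      rw [hαβ, smul_add, smul_smul, mul_div_cancel₀ _ hα]
    have hk3 : (β / α) ^ 3 = 1 := cube hF (div_ne_zero hβ hα)
    generalize β / α = k at hk hk3
    have hfac : (k - 1) * ((k - ω) * (k - ω ^ 2)) = 0 := by
      linear_combination hk3 - k ^ 2 * hω + k * (hω + h3) - h3
    rw [tr_eq_of_smul hF (hiso k) hw hw0 hk]
    rcases mul_eq_zero.1 hfac with h | h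
    · right; right; left; rw [show tr hF (hiso k) = tr hF (hiso 1) by
        exact tr_congr hF _ _ (by rw [sub_eq_zero.1 h])]
    rcases mul_eq_zero.1 h with h | h
    · right; right; right; left; rw [show tr hF (hiso k) = tr hF (hiso ω) by
        exact tr_congr hF _ _ (by rw [sub_eq_zero.1 h])]
    · right; right; right; right; rw [show tr hF (hiso k) = tr hF (hiso (ω ^ 2)) by
        exact tr_congr hF _ _ (by rw [sub_eq_zero.1 h])]

end Cfsg.Agent.ThreeTransp.Factor.UnitarySix

namespace Cfsg.Agent.ThreeTransp.Factor.UnitarySix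

open Matrix Cfsg.Agent.Classical.Unitary
open Cfsg.Agent.Forms
open Cfsg.Agent.GroupStructure3.ThreeTransUnitary
open Cfsg.Agent.ThreeTransp

variable {F : Type*} [Field F] [Fintype F] (hF : Fintype.card F = 2 ^ 2)
include hF

/-- A generating set of 3-transpositions of the projective group has more than 364 members. -/
theorem card_gt {E : Set (Cfsg.PSU 6 F 2)} (hE : Cfsg.IsThreeTranspositionGroup E) :
    364 < E.ncard := by
  classical
  haveI := simple_PSU hF
  obtain ⟨e₀, he₀⟩ : E.Nonempty := by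
    rw [Set.nonempty_iff_ne_empty]
    intro he
    have h := hE.2.2
    rw [he, Subgroup.closure_empty] at h
    exact bot_ne_top h
  obtain ⟨u, hu, hu0, rfl⟩ := exists_vec hF hE he₀
  have hmem : ∀ {w : Fin 6 → F} (hw : Cfsg.hermForm 6 F 2 w w = 0), w ≠ 0 →
      QuotientGroup.mk' (Subgroup.center (Cfsg.SU 6 F 2)) (tr hF hw) ∈ E := by
    intro w hw hw0
    obtain ⟨e, -, hcl⟩ := (three_class (n := 6) hF (by omega)).2.1
    have h1 : IsConj e (tr hF hu) :=
      (Set.ext_iff.1 hcl _).1 ((rank_one_iff hF (tr hF hu)).2 ⟨u, hu, hu0, rfl⟩)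
    have h2 : IsConj e (tr hF hw) :=
      (Set.ext_iff.1 hcl _).1 ((rank_one_iff hF (tr hF hw)).2 ⟨w, hw, hw0, rfl⟩)
    obtain ⟨g, hg⟩ := isConj_iff.1 (h1.symm.trans h2)
    rw [← hg, map_mul, map_mul, map_inv]
    exact hE.2.1 _ _ he₀
  set W : Set (Fin 6 → F) := {w | w ≠ 0 ∧ Cfsg.hermForm 6 F 2 w w = 0} with hW
  have hWcard : W.ncard = 2079 := by
    have hcnt := Cfsg.Agent.Classical.UnitaryCount.cnt_zero_eq (n := 6) hF
    have hset : W.ncard + 1 = Cfsg.Agent.Classical.UnitaryCount.cnt F 2 6 0 := by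
      have hins : {x : Fin 6 → F | Cfsg.hermForm 6 F 2 x x = 0} = insert 0 W := by
        ext x
        by_cases hx : x = 0
        · simp [hW, hx, H_zero_left]
        · simp [hW, hx]
      rw [Cfsg.Agent.Classical.UnitaryCount.cnt, ← Set.coe_setOf, Nat.card_coe_set_eq, hins,
        Set.ncard_insert_of_notMem (by simp [hW])]
    rw [hcnt] at hset
    norm_num [Nat.even_iff] at hset
    omega
  choose v hv hv0 hev using fun e : E => exists_vec hF hE e.2
  have hsub : W ⊆ (fun p : E × F => p.2 • v p.1) '' Set.univ := by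
    rintro w ⟨hw0, hw⟩
    set e : E := ⟨_, hmem hw hw0⟩ with he
    have heq := tr_eq_of_mk hF hw (hv e) (hev e)
    obtain ⟨x, -, hx⟩ := exists_sep hF (S := (∅ : Set (Fin 6 → F))) (v := w) (by simpa using hw0)
    have h := congrArg (fun g => mat g *ᵥ x) heq
    simp only [tr_mulVec, hx, one_smul, add_right_inj] at h
    exact ⟨(e, Cfsg.hermForm 6 F 2 x (v e)), trivial, h.symm⟩
  have hle := (Set.ncard_le_ncard hsub (Set.toFinite _)).trans (Set.ncard_image_le (Set.toFinite _))
  rw [Set.ncard_univ, Nat.card_prod, Nat.card_coe_set_eq, hWcard, Nat.card_eq_fintype_card, hF]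
    at hle
  omega

end Cfsg.Agent.ThreeTransp.Factor.UnitarySix
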