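import Cfsg.Prelude.Def_FischerSpaces
import Cfsg.Agent.Lib.ThreeTransp.RankThree
import Cfsg.Agent.Lib.ThreeTransp.Ortho3
import Cfsg.Agent.Lib.ThreeTransp.Factor.UnitarySix

/-!
The relations of the groups of types M(22), M(23), M(24).
-/

set_option autoImplicit false

namespace Cfsg.Agent.ThreeTransp.Factor

open Cfsg.Agent.ThreeTransp

theorem pCore_eq_bot_of_simple {S : Type*} [Group S] [Finite S] [IsSimpleGroup S] {p : ℕ}
    [Fact p.Prime] (hnab : ¬ ∀ a b : S, a * b = b * a) : Cfsg.pCore p S = ⊥ := by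
  refine (IsSimpleGroup.eq_bot_or_eq_top_of_normal _ (Cores.pCore_normal p)).resolve_right fun h => ?_
  haveI : Group.IsNilpotent S := (Cores.pCore_eq_top_iff p |>.1 h).isNilpotent
  exact hnab (IsSimpleGroup.comm_iff_isSolvable.2 inferInstance)

section iso

variable {S : Type*} [Group S] [Finite S] {F : Type} [Field F] [Fintype F]
  (hF : Fintype.card F = 2 ^ 2)
include hF

omit [Finite S] in
theorem simple_of_iso (φ : S ≃* Cfsg.PSU 6 F 2) :
    IsSimpleGroup S ∧ Nontrivial S ∧ (¬ ∀ a b : S, a * b = b * a) ∧ Subgroup.center S = ⊥ := by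
  haveI := UnitarySix.simple_PSU hF
  haveI := φ.toEquiv.nontrivial
  haveI hs : IsSimpleGroup S := φ.isSimpleGroup
  have hnab : ¬ ∀ a b : S, a * b = b * a := by
    intro hab
    set SU6 := Cfsg.SU 6 F 2
    have hc : commutator SU6 ≤ Subgroup.center SU6 := by
      rw [commutator_def, Subgroup.commutator_le]
      intro a _ b _
      refine (QuotientGroup.eq_one_iff _).1 ?_
      have h := congrArg φ (hab (φ.symm (QuotientGroup.mk' _ a)) (φ.symm (QuotientGroup.mk' _ b)))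
      simp only [map_mul, MulEquiv.apply_symm_apply] at h
      show QuotientGroup.mk' (Subgroup.center SU6) _ = 1
      rw [map_commutatorElement, commutatorElement_eq_one_iff_commute]
      exact h
    rw [UnitarySix.commutator_top hF, top_le_iff] at hc
    obtain ⟨a, b, hab'⟩ := exists_pair_ne (Cfsg.PSU 6 F 2)
    obtain ⟨a, rfl⟩ := QuotientGroup.mk_surjective a
    obtain ⟨b, rfl⟩ := QuotientGroup.mk_surjective b
    exact hab' (QuotientGroup.eq.2 (hc ▸ Subgroup.mem_top _))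
  refine ⟨hs, inferInstance, hnab, ?_⟩
  refine (IsSimpleGroup.eq_bot_or_eq_top_of_normal _ inferInstance).resolve_right fun h => hnab ?_
  intro a b
  exact (Subgroup.mem_center_iff.1 (h ▸ Subgroup.mem_top b) a)

theorem pCore_two_of_iso (φ : S ≃* Cfsg.PSU 6 F 2) : Cfsg.pCore 2 S = ⊥ := by
  obtain ⟨hs, -, hnab, -⟩ := simple_of_iso hF φ
  haveI : Fact (Nat.Prime 2) := ⟨Nat.prime_two⟩
  exact pCore_eq_bot_of_simple hnab

omit [Finite S] hF in
theorem grp_image {T : Type*} [Group T] (φ : S ≃* T) {E : Set S}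
    (hE : Cfsg.IsThreeTranspositionGroup E) : Cfsg.IsThreeTranspositionGroup (φ '' E) := by
  refine ⟨⟨?_, ?_⟩, ?_, ?_⟩
  · rintro _ ⟨x, hx, rfl⟩; rw [φ.orderOf_eq]; exact hE.1.1 x hx
  · rintro _ ⟨x, hx, rfl⟩ _ ⟨y, hy, rfl⟩
    rcases hE.1.2 x hx y hy with h | h
    · left; rw [← map_mul, ← map_pow, h, map_one]
    · right; rw [← map_mul, ← map_pow, h, map_one]
  · rintro g _ ⟨x, hx, rfl⟩
    exact ⟨φ.symm g * x * (φ.symm g)⁻¹, hE.2.1 _ x hx, by simp⟩
  · rw [show (φ : S → T) = φ.toMonoidHom from rfl, ← MonoidHom.map_closure, hE.2.2,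
      Subgroup.map_top_of_surjective _ φ.surjective]

omit [Finite S] in
theorem rel_four_of_iso (φ : S ≃* Cfsg.PSU 6 F 2) {E : Set S}
    (hE : Cfsg.IsThreeTranspositionGroup E) : Rel 4 E := by
  intro l hnd h1 h4 hmem hcomm hprod
  refine UnitarySix.rel_four hF (grp_image φ hE) (l.map φ) (hnd.map φ.injective) (by simpa)
    (by simpa) ?_ ?_ ?_
  · intro a ha
    obtain ⟨b, hb, rfl⟩ := List.mem_map.1 ha
    exact ⟨b, hmem b hb, rfl⟩
  · intro a ha b hb
    obtain ⟨a, ha', rfl⟩ := List.mem_map.1 ha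
    obtain ⟨b, hb', rfl⟩ := List.mem_map.1 hb
    exact (hcomm a ha' b hb').map φ
  · rw [← map_list_prod, hprod, map_one]

end iso

/-- No unitary group of dimension six is a projective reflection group over the field of three
elements. -/
theorem not_proj_refl {F : Type} [Field F] [Fintype F] (hF : Fintype.card F = 2 ^ 2) {μ c : ZMod 3}
    (hc : c ≠ 0) (h : Cfsg.IsProjReflectionGroupModThree (Cfsg.PSU 6 F 2) 6 μ c) : False := by
  classical
  obtain ⟨Q, hQ, -, ⟨φ⟩⟩ := h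
  set X := Cfsg.reflectionSubgroup (⇑Q) c
  set π : ↥X →* Cfsg.PSU 6 F 2 := φ.symm.toMonoidHom.comp (QuotientGroup.mk' (Subgroup.center ↥X))
    with hπ
  have hπs : Function.Surjective π := φ.symm.surjective.comp (QuotientGroup.mk'_surjective _)
  set R : Set ↥X := {g | (g : ↥(Cfsg.isometryGroup (ZMod 3) (⇑Q))) ∈ Cfsg.reflectionsOfNorm (⇑Q) c}
    with hR
  obtain ⟨hset, -, hgen⟩ := Ortho3.three_class (show 5 ≤ 6 by norm_num) hQ hc
  set E : Set (Cfsg.PSU 6 F 2) := (π '' R) \ {1} with hE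
  have hgrp : Cfsg.IsThreeTranspositionGroup E := by
    refine ⟨⟨?_, ?_⟩, ?_, ?_⟩
    · rintro _ ⟨⟨x, hx, rfl⟩, hne⟩
      refine orderOf_eq_prime ?_ hne
      have h := pow_orderOf_eq_one x
      rw [hset.1 x hx] at h
      rw [← map_pow, h, map_one]
    · rintro _ ⟨⟨x, hx, rfl⟩, -⟩ _ ⟨⟨y, hy, rfl⟩, -⟩
      rcases hset.2 x hx y hy with h | h
      · left; rw [← map_mul, ← map_pow, h, map_one]
      · right; rw [← map_mul, ← map_pow, h, map_one]
    · rintro g _ ⟨⟨x, hx, rfl⟩, hne⟩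
      obtain ⟨k, rfl⟩ := hπs g
      refine ⟨⟨k * x * k⁻¹, Ortho3.conj_mem_norm hx _, by simp⟩, fun e => hne ?_⟩
      rw [Set.mem_singleton_iff, mul_inv_eq_one] at e
      exact Set.mem_singleton_iff.2 (mul_eq_left.1 e)
    · rw [eq_top_iff]
      intro g _
      obtain ⟨k, rfl⟩ := hπs g
      have hk : π k ∈ (Subgroup.closure R).map π :=
        ⟨k, hgen ▸ Subgroup.mem_top k, rfl⟩
      rw [MonoidHom.map_closure] at hk
      refine (Subgroup.closure_le _).2 ?_ hk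
      intro x hx
      by_cases h1 : x = 1
      · rw [h1]; exact one_mem _
      · exact Subgroup.subset_closure ⟨hx, h1⟩
  have h1 := UnitarySix.card_gt hF hgrp
  have h2 : E.ncard ≤ R.ncard :=
    (Set.ncard_le_ncard Set.diff_subset (Set.toFinite _)).trans (Set.ncard_image_le (Set.toFinite _))
  have h3 : R.ncard * 2 ≤ 729 := by
    choose v hv hgv using fun r : R => Ortho3.mem_norm.1 r.2
    have hinj : Function.Injective fun p : R × Bool => if p.2 then v p.1 else -v p.1 := by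
      intro p p' e
      have key : ∀ p : R × Bool, Cfsg.Agent.Forms.QuadStd.reflect Q
          (if p.2 then v p.1 else -v p.1) = ((p.1 : ↥X) : ↥(Cfsg.isometryGroup (ZMod 3) (⇑Q))) := by
        rintro ⟨r, b⟩
        cases b
        · simp only [Bool.false_eq_true, if_false]
          rw [show -v r = (-1 : ZMod 3) • v r by simp,
            Cfsg.Agent.Forms.Spinor.reflect_smul _ (by decide)]
          exact (hgv r).symm
        · exact (hgv r).symm
      have hr : p.1 = p'.1 := Subtype.ext (Subtype.ext (by rw [← key p, ← key p']; simp only at e ⊢; simp [e]))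
      obtain ⟨r, b⟩ := p
      obtain ⟨r', b'⟩ := p'
      simp only at hr e
      subst hr
      have hne : v r ≠ -v r := by
        intro h
        refine hc ?_
        have h0 : v r = 0 := by
          funext i
          have h4 := congrFun h i
          simp only [Pi.neg_apply] at h4
          have : ∀ x : ZMod 3, x = -x → x = 0 := by decide
          exact this _ h4
        rw [← hv r, h0, QuadraticMap.map_zero]
      cases b <;> cases b' <;> simp at e ⊢ <;> first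
        | exact hne e
        | exact hne e.symm
    have h := Nat.card_le_card_of_injective _ hinj
    rw [Nat.card_prod, Nat.card_coe_set_eq, Nat.card_eq_fintype_card (α := Bool), Fintype.card_bool,
      Nat.card_eq_fintype_card] at h
    simpa using h
  omega

theorem proj_refl_congr {A B : Type*} [Group A] [Group B] (φ : A ≃* B) {n : ℕ} {μ c : ZMod 3}
    (h : Cfsg.IsProjReflectionGroupModThree A n μ c) :
    Cfsg.IsProjReflectionGroupModThree B n μ c := by
  obtain ⟨Q, hQ, hμ, ⟨ψ⟩⟩ := h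
  exact ⟨Q, hQ, hμ, ⟨φ.symm.trans ψ⟩⟩

variable {G : Type*} [Group G] {D : Set G}

theorem strip_one (h : Cfsg.IsOfTypeM22 G D) : Cfsg.IsOfTypeM22 G (D \ {1}) := by
  obtain ⟨hZ, d, hd, c, hc, hdc, hU, c₃, hc₃, hL⟩ := h
  have hd1 : d ≠ 1 := fun e => hdc (e ▸ Commute.one_left c)
  have hc1 : c ≠ 1 := fun e => hdc (e ▸ Commute.one_right d)
  have hcl : ∀ A B : Set G, B ⊆ A → A ⊆ B ∪ {1} → Subgroup.closure B = Subgroup.closure A := by
    intro A B h1 h2
    refine le_antisymm (Subgroup.closure_mono h1) ((Subgroup.closure_le _).2 fun x hx => ?_)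
    rcases h2 hx with h | h
    · exact Subgroup.subset_closure h
    · rw [Set.mem_singleton_iff.1 h]; exact one_mem _
  have e1 : Subgroup.closure {y : G | y ∈ D \ {1} ∧ y ≠ d ∧ Commute d y} =
      Subgroup.closure {y : G | y ∈ D ∧ y ≠ d ∧ Commute d y} := by
    refine hcl _ _ (fun y hy => ⟨hy.1.1, hy.2⟩) fun y hy => ?_
    by_cases h1 : y = 1
    · exact Or.inr h1
    · exact Or.inl ⟨⟨hy.1, h1⟩, hy.2⟩
  have e2 : Subgroup.closure ({y : G | y ∈ D \ {1} ∧ y ≠ d ∧ Commute d y} ∩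
        {y : G | y ∈ D \ {1} ∧ y ≠ c ∧ Commute c y}) =
      Subgroup.closure ({y : G | y ∈ D ∧ y ≠ d ∧ Commute d y} ∩
        {y : G | y ∈ D ∧ y ≠ c ∧ Commute c y}) := by
    refine hcl _ _ (fun y hy => ⟨⟨hy.1.1.1, hy.1.2⟩, ⟨hy.2.1.1, hy.2.2⟩⟩) fun y hy => ?_
    by_cases h1 : y = 1
    · exact Or.inr h1
    · exact Or.inl ⟨⟨⟨hy.1.1, h1⟩, hy.1.2⟩, ⟨⟨hy.2.1, h1⟩, hy.2.2⟩⟩
  have t1 : ∀ {A B : Subgroup G}, A = B → Nonempty (↥A ⧸ Subgroup.center ↥A ≃* ↥B ⧸ Subgroup.center ↥B) := by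
    rintro A B rfl; exact ⟨MulEquiv.refl _⟩
  obtain ⟨F, i1, i2, hF, ⟨φ⟩⟩ := hU
  obtain ⟨ψ₁⟩ := t1 e1
  obtain ⟨ψ₂⟩ := t1 e2.symm
  exact ⟨hZ, d, ⟨hd, hd1⟩, c, ⟨hc, hc1⟩, hdc, ⟨F, i1, i2, hF, ⟨ψ₁.trans φ⟩⟩,
    c₃, hc₃, proj_refl_congr ψ₂ hL⟩

/-- A group of type M(22) has one class of members. -/
theorem transitive_of_M22 [Finite G] (hD : Cfsg.IsThreeTranspositionGroup D)
    (h : Cfsg.IsOfTypeM22 G D) : ∀ a ∈ D, ∀ b ∈ D, ∃ g : G, g * a * g⁻¹ = b := by
  obtain ⟨hZ, d, hd, c, hc, hdc, ⟨F, i1, i2, hF, ⟨φ₀⟩⟩, c₃, hc₃, hL⟩ := h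
  let φ : Sd D d ≃* Cfsg.PSU 6 F 2 := φ₀
  have hF' : Fintype.card F = 2 ^ 2 := hF
  suffices hall : ∀ y ∈ D, IsConj d y by
    intro a ha b hb
    exact isConj_iff.1 ((hall a ha).symm.trans (hall b hb))
  by_contra hcon
  push Not at hcon
  obtain ⟨b₀, hb₀, hb₀A⟩ := hcon
  obtain ⟨hsimp, -, -, hZS⟩ := simple_of_iso hF' φ
  set B : Set G := {y | y ∈ D ∧ ¬ IsConj d y} with hB
  have hconj : ∀ x ∈ D, ∀ y ∈ D, ¬ Commute x y → IsConj x y := fun x hx y hy hn =>
    isConj_iff.2 ⟨x * y, by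
      rw [mul_inv_rev, Classes.inv hD hx, Classes.inv hD hy]
      calc x * y * x * (y * x) = x * (y * x * y) * x := by simp [mul_assoc]
        _ = x * (x * y * x) * x := by rw [Basic.braid hD.1 hx hy hn]
        _ = (x * x) * y * (x * x) := by simp [mul_assoc]
        _ = y := by rw [Classes.sq hD hx, one_mul, mul_one]⟩
  have hAB : ∀ x ∈ D, IsConj d x → ∀ y ∈ B, Commute x y := fun x hx hdx y hy =>
    by_contra fun hn => hy.2 (hdx.trans (hconj x hx y hy.1 hn))
  have hBn : ∀ y ∈ B, y ∈ nb D d := fun y hy =>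
    ⟨hy.1, fun e => hy.2 (e ▸ IsConj.refl d), hAB d hd (IsConj.refl d) y hy⟩
  have hcA : IsConj d c := hconj d hd c hc hdc
  have hBn' : ∀ y ∈ B, y ∈ nb D d ∩ nb D c := fun y hy =>
    ⟨hBn y hy, hy.1, fun e => hy.2 (e ▸ hcA), hAB c hc hcA y hy⟩
  set P := Subgroup.closure B with hP
  have hPA : ∀ p ∈ P, ∀ x ∈ D, IsConj d x → Commute p x := by
    intro p hp x hx hdx
    induction hp using Subgroup.closure_induction with
    | mem y hy => exact (hAB x hx hdx y hy).symm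
    | one => exact Commute.one_left x
    | mul a b _ _ ha hb => exact ha.mul_left hb
    | inv a _ ha => exact ha.inv_left
  have hPZ : ∀ p ∈ P, (∀ q ∈ P, Commute q p) → p = 1 := by
    intro p hp hq
    rw [← Subgroup.mem_bot, ← hZ, Subgroup.mem_center_iff]
    intro g
    have hle : Subgroup.closure D ≤ Subgroup.centralizer ({p} : Set G) := by
      rw [Subgroup.closure_le]
      intro x hx
      rw [SetLike.mem_coe, Subgroup.mem_centralizer_iff]
      rintro _ rfl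
      by_cases hdx : IsConj d x
      · exact (hPA _ hp x hx hdx).eq
      · exact (hq x (Subgroup.subset_closure ⟨hx, hdx⟩)).eq.symm
    rw [hD.2.2] at hle
    exact (Subgroup.mem_centralizer_iff.1 (hle (Subgroup.mem_top g)) p rfl).symm
  haveI hPn : P.Normal := ⟨fun p hp g => by
    induction hp using Subgroup.closure_induction with
    | mem y hy =>
      exact Subgroup.subset_closure ⟨hD.2.1 g y hy.1, fun e =>
        hy.2 (e.trans (isConj_iff.2 ⟨g⁻¹, by group⟩))⟩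
    | one => simp
    | mul a b _ _ ha hb =>
      rw [show g * (a * b) * g⁻¹ = (g * a * g⁻¹) * (g * b * g⁻¹) by group]
      exact P.mul_mem ha hb
    | inv a _ ha =>
      rw [show g * a⁻¹ * g⁻¹ = (g * a * g⁻¹)⁻¹ by group]
      exact P.inv_mem ha⟩
  have hPH : P ≤ Hd D d := (Subgroup.closure_le _).2 fun y hy => mem_Hd (hBn y hy)
  set ψ : ↥P →* Sd D d := (QuotientGroup.mk' _).comp (Subgroup.inclusion hPH) with hψ
  have hψinj : Function.Injective ψ := by
    rw [injective_iff_map_eq_one]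
    intro p hp
    have h1 := Subgroup.mem_center_iff.1 ((QuotientGroup.eq_one_iff _).1 hp)
    exact Subtype.ext (hPZ p p.2 fun q hq => congrArg Subtype.val (h1 ⟨q, hPH hq⟩))
  haveI hrn : ψ.range.Normal := ⟨by
    rintro _ ⟨p, rfl⟩ g
    obtain ⟨g, rfl⟩ := QuotientGroup.mk'_surjective _ g
    refine ⟨⟨(g : G) * p * (g : G)⁻¹, hPn.conj_mem _ p.2 _⟩, ?_⟩
    simp only [hψ, MonoidHom.comp_apply, ← map_inv, ← map_mul]
    rfl⟩
  have hψs : ψ.range = ⊤ := by
    haveI := hsimp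
    refine (IsSimpleGroup.eq_bot_or_eq_top_of_normal _ hrn).resolve_left fun h => ?_
    have hb : ψ ⟨b₀, Subgroup.subset_closure ⟨hb₀, hb₀A⟩⟩ ∈ ψ.range := ⟨_, rfl⟩
    rw [h, Subgroup.mem_bot, map_eq_one_iff _ hψinj] at hb
    exact Basic.ne_one hD.1 hb₀ (congrArg Subtype.val hb)
  have hAc : ∀ x : ↥(Hd D d), (x : G) ∈ nb D d → IsConj d (x : G) →
      x ∈ Subgroup.center ↥(Hd D d) := by
    intro x hx hdx
    refine (QuotientGroup.eq_one_iff x).1 (Subgroup.mem_bot.1 ?_)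
    rw [← hZS, Subgroup.mem_center_iff]
    intro s
    obtain ⟨p, rfl⟩ : s ∈ ψ.range := hψs ▸ Subgroup.mem_top s
    exact (Commute.map (f := QuotientGroup.mk' _)
      (show Commute (Subgroup.inclusion hPH p) x from Subtype.ext (hPA p p.2 _ hx.1 hdx).eq)).eq
  set L := Subgroup.closure (nb D d ∩ nb D c) with hLdef
  have hPL : P ≤ L := (Subgroup.closure_le _).2 fun y hy => Subgroup.subset_closure (hBn' y hy)
  set χ : ↥P →* ↥L ⧸ Subgroup.center ↥L := (QuotientGroup.mk' _).comp (Subgroup.inclusion hPL)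
    with hχ
  have hχinj : Function.Injective χ := by
    rw [injective_iff_map_eq_one]
    intro p hp
    have h1 := Subgroup.mem_center_iff.1 ((QuotientGroup.eq_one_iff _).1 hp)
    exact Subtype.ext (hPZ p p.2 fun q hq => congrArg Subtype.val (h1 ⟨q, hPL hq⟩))
  have hLH : L ≤ Hd D d := Subgroup.closure_mono Set.inter_subset_left
  have hχs : Function.Surjective χ := by
    rw [← MonoidHom.range_eq_top, eq_top_iff]
    intro q _
    obtain ⟨⟨l, hl⟩, rfl⟩ := QuotientGroup.mk'_surjective _ q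
    rename_i hq0
    clear hq0
    induction hl using Subgroup.closure_induction with
    | mem y hy =>
      by_cases hdy : IsConj d y
      · have hyz : (⟨y, Subgroup.subset_closure hy⟩ : ↥L) ∈ Subgroup.center ↥L := by
          rw [Subgroup.mem_center_iff]
          intro g
          have h1 := Subgroup.mem_center_iff.1 (hAc ⟨y, mem_Hd hy.1⟩ hy.1 hdy) ⟨g, hLH g.2⟩
          exact Subtype.ext (congrArg (fun z : ↥(Hd D d) => (z : G)) h1)
        refine ⟨1, ?_⟩
        rw [map_one]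
        exact ((QuotientGroup.eq_one_iff _).2 hyz).symm
      · exact ⟨⟨y, Subgroup.subset_closure ⟨hy.1.1, hdy⟩⟩, rfl⟩
    | one => exact ⟨1, by rw [map_one]; rfl⟩
    | mul a b _ _ ha hb =>
      obtain ⟨p, hp⟩ := ha
      obtain ⟨q, hq⟩ := hb
      exact ⟨p * q, by rw [map_mul, hp, hq, ← map_mul]; rfl⟩
    | inv a _ ha =>
      obtain ⟨p, hp⟩ := ha
      exact ⟨p⁻¹, by rw [map_inv, hp, ← map_inv]; rfl⟩
  exact not_proj_refl hF' hc₃ (proj_refl_congr
    (((MulEquiv.ofBijective χ ⟨hχinj, hχs⟩).symm.trans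
      (MulEquiv.ofBijective ψ ⟨hψinj, MonoidHom.range_eq_top.1 hψs⟩)).trans φ) hL)

/-- The facts on one member of a group of type M(22). -/
theorem M22_core [Finite G] (hD : Cfsg.IsThreeTranspositionGroup D)
    (h : Cfsg.IsOfTypeM22 G D) : Cfsg.pCore 2 G = ⊥ ∧ Rel 5 D ∧
      ∀ a ∈ D, Sep D a ∧ (∀ x ∈ Dl D a, x ∉ Subgroup.center ↥(Hd D a)) ∧
        ∃ (F : Type) (_ : Field F) (_ : Fintype F), Fintype.card F = 2 ^ 2 ∧
          Nonempty (Sd D a ≃* Cfsg.PSU 6 F 2) := by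
  have htr := transitive_of_M22 hD h
  obtain ⟨hZ, d, hd, c, hc, hdc, ⟨F, i1, i2, hF, ⟨φ₀⟩⟩, -⟩ := h
  let φ : Sd D d ≃* Cfsg.PSU 6 F 2 := φ₀
  have hF' : Fintype.card F = 2 ^ 2 := hF
  have hat : ∀ a ∈ D, Nonempty (Sd D a ≃* Cfsg.PSU 6 F 2) := by
    intro a ha
    obtain ⟨g, hg⟩ := htr a ha d hd
    have hmap : (Hd D a).map (MulAut.conj g).toMonoidHom = Hd D d := by
      rw [MonoidHom.map_closure]
      congr 1
      ext y
      constructor
      · rintro ⟨x, ⟨hx, hxa, hax⟩, rfl⟩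
        refine ⟨hD.2.1 g x hx, fun e => hxa ?_, ?_⟩
        · exact (MulAut.conj g).injective (e.trans hg.symm)
        · show Commute d (g * x * g⁻¹)
          rw [← hg]; exact Basic.commute_conj.2 hax
      · rintro ⟨hy, hyd, hdy⟩
        refine ⟨g⁻¹ * y * g, ⟨Classes.inv_conj_mem hD g hy, fun e => hyd ?_, ?_⟩, ?_⟩
        · rw [← hg, ← e]; group
        · refine (Basic.commute_conj (g := g)).1 ?_
          rw [hg, show g * (g⁻¹ * y * g) * g⁻¹ = y by group]; exact hdy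
        · show g * (g⁻¹ * y * g) * g⁻¹ = y
          group
    let e : ↥(Hd D a) ≃* ↥(Hd D d) :=
      ((Hd D a).equivMapOfInjective _ (MulAut.conj g).injective).trans (MulEquiv.subgroupCongr hmap)
    refine ⟨(QuotientGroup.congr _ _ e ?_).trans φ⟩
    ext x
    constructor
    · rintro ⟨z, hz, rfl⟩
      rw [Subgroup.mem_center_iff]
      intro w
      obtain ⟨w, rfl⟩ := e.surjective w
      show e w * e z = e z * e w
      rw [← map_mul, Subgroup.mem_center_iff.1 hz w, map_mul]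
    · intro hx
      refine ⟨e.symm x, ?_, e.apply_symm_apply x⟩
      rw [SetLike.mem_coe, Subgroup.mem_center_iff]
      intro w
      apply e.injective
      rw [map_mul, map_mul, e.apply_symm_apply, Subgroup.mem_center_iff.1 hx]
  have key : ∀ a ∈ D, Cfsg.pCore 2 G = ⊥ ∧ (∀ x ∈ Dl D a, x ∉ Subgroup.center ↥(Hd D a)) ∧
      Sep D a := by
    intro a ha
    obtain ⟨ψ⟩ := hat a ha
    exact core hD htr hZ ha (simple_of_iso hF' ψ).2.1 (pCore_two_of_iso hF' ψ)
  refine ⟨(key d hd).1, rel_lift hD htr hd (key d hd).2.2 ?_, fun a ha =>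
    ⟨(key a ha).2.2, (key a ha).2.1, F, i1, i2, hF', hat a ha⟩⟩
  exact rel_four_of_iso hF' φ (grp_Dq hD (key d hd).2.1)

/-- The facts on a group of type M(23) with one class. -/
theorem M23_core [Finite G] (hD : Cfsg.IsThreeTranspositionGroup D)
    (htr : ∀ a ∈ D, ∀ b ∈ D, ∃ g : G, g * a * g⁻¹ = b)
    (h : Cfsg.IsOfTypeM23 G D) : Cfsg.pCore 2 G = ⊥ ∧ Rel 6 D := by
  obtain ⟨hZ, d, hd, c, hc, hdc, h22, -⟩ := h
  have h22' : Cfsg.IsOfTypeM22 (Sd D d) (Dq D d) := h22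
  have hs := strip_one h22'
  have hgrp : Cfsg.IsThreeTranspositionGroup (Dq D d \ {1}) := by
    have hL := grp_Dl hD d
    refine ⟨⟨?_, ?_⟩, ?_, ?_⟩
    · rintro _ ⟨⟨x, hx, rfl⟩, hne⟩
      refine orderOf_eq_prime ?_ hne
      rw [← QuotientGroup.mk_pow, pow_two, Classes.sq hL hx]
      rfl
    · rintro _ ⟨⟨x, hx, rfl⟩, -⟩ _ ⟨⟨y, hy, rfl⟩, -⟩
      rcases hL.1.2 x hx y hy with h | h
      · left; rw [← QuotientGroup.mk_mul, ← QuotientGroup.mk_pow, h]; rfl
      · right; rw [← QuotientGroup.mk_mul, ← QuotientGroup.mk_pow, h]; rfl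
    · intro g
      obtain ⟨g, rfl⟩ := QuotientGroup.mk_surjective g
      rintro _ ⟨⟨x, hx, rfl⟩, hne⟩
      refine ⟨⟨g * x * g⁻¹, hL.2.1 g x hx, rfl⟩, fun e => hne ?_⟩
      rw [Set.mem_singleton_iff, mul_inv_eq_one] at e
      exact Set.mem_singleton_iff.2 (mul_eq_left.1 e)
    · rw [eq_top_iff, ← closure_Dq d, Subgroup.closure_le]
      intro x hx
      by_cases h1 : x = 1
      · rw [h1]; exact one_mem _
      · exact Subgroup.subset_closure ⟨hx, h1⟩
  have hcore2 := (M22_core hgrp hs).1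
  have hnt : Nontrivial (Sd D d) := by
    obtain ⟨-, a, -, b, -, hab, -⟩ := h22'
    exact ⟨a, b, fun e => hab (e ▸ Commute.refl a)⟩
  obtain ⟨h2, hne, hsep⟩ := core hD htr hZ hd hnt hcore2
  exact ⟨h2, rel_lift hD htr hd hsep (M22_core (grp_Dq hD hne) h22').2.1⟩

/-- Conjugation by the local subgroup is realised inside `Hd`. -/
theorem loc_conj (hD : Cfsg.IsThreeTranspositionGroup D) {a h : G}
    (hh : h ∈ RankThree.loc D a) : ∀ x ∈ nb D a, ∃ k ∈ Hd D a, k * x * k⁻¹ = h * x * h⁻¹ := by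
  induction hh using Subgroup.closure_induction'' with
  | one => exact fun x _ => ⟨1, one_mem _, rfl⟩
  | mem y hy =>
    intro x hx
    by_cases hya : y = a
    · refine ⟨1, one_mem _, ?_⟩
      rw [hya, hx.2.2.eq]; group
    · exact ⟨y, mem_Hd ⟨hy.1, hya, hy.2⟩, rfl⟩
  | inv_mem y hy =>
    intro x hx
    rw [Classes.inv hD hy.1]
    by_cases hya : y = a
    · refine ⟨1, one_mem _, ?_⟩
      rw [hya, hx.2.2.eq]; group
    · exact ⟨y, mem_Hd ⟨hy.1, hya, hy.2⟩, rfl⟩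
  | mul p q hp hq ihp ihq =>
    intro x hx
    obtain ⟨k, hk, hk'⟩ := ihq x hx
    have hqx : q * x * q⁻¹ ∈ nb D a := by
      have hc := RankThree.loc_commute (D := D) hq
      refine ⟨hD.2.1 q x hx.1, fun e => hx.2.1 ?_, ?_⟩
      · calc x = q⁻¹ * (q * x * q⁻¹) * q := by group
          _ = q⁻¹ * a * q := by rw [e]
          _ = a := by rw [mul_assoc, hc.eq, ← mul_assoc, inv_mul_cancel, one_mul]
      · exact (hc.mul_right hx.2.2).mul_right hc.inv_right
    obtain ⟨m, hm, hm'⟩ := ihp _ hqx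
    refine ⟨m * k, mul_mem hm hk, ?_⟩
    calc m * k * x * (m * k)⁻¹ = m * (k * x * k⁻¹) * m⁻¹ := by group
      _ = m * (q * x * q⁻¹) * m⁻¹ := by rw [hk']
      _ = p * (q * x * q⁻¹) * p⁻¹ := hm'
      _ = p * q * x * (p * q)⁻¹ := by group

/-- The relations at the top of the chain, given primitivity. -/
theorem M24_rel [Finite G] (hD : Cfsg.IsThreeTranspositionGroup D)
    (hprim : Cfsg.IsPrimitiveUnderConj D) (h : Cfsg.IsOfTypeM24 G D) :
    Rel 7 D := by
  obtain ⟨hZ, d, hd, c, hc, hdc, h23, -⟩ := h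
  have h23' : Cfsg.IsOfTypeM23 (Sd D d) (Dq D d) := h23
  obtain ⟨-, a, ha, b, hb, hab, -⟩ := id h23'
  obtain ⟨a₀, ha₀, rfl⟩ := ha
  obtain ⟨b₀, hb₀, rfl⟩ := hb
  have hw : ∃ x ∈ D, ∃ y ∈ D, x ≠ y ∧ Commute x y :=
    ⟨a₀, ha₀.1, d, hd, ha₀.2.1, ha₀.2.2.symm⟩
  have z2 := (Primitive.cores_central hD hprim hw).1
  have htrS : ∀ x ∈ Dq D d, ∀ y ∈ Dq D d, ∃ g : Sd D d, g * x * g⁻¹ = y := by
    rintro _ ⟨x, hx, rfl⟩ _ ⟨y, hy, rfl⟩
    obtain ⟨g, hg, hgxy⟩ :=
      RankThree.linked_inner hD hprim hw z2 hd hx.1 hy.1 hx.2.2 hy.2.2 hx.2.1 hy.2.1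
    obtain ⟨k, hk, hk'⟩ := loc_conj hD hg _ hx
    refine ⟨QuotientGroup.mk ⟨k, hk⟩, ?_⟩
    rw [← QuotientGroup.mk_mul, ← QuotientGroup.mk_inv, ← QuotientGroup.mk_mul]
    exact congrArg _ (Subtype.ext (hk'.trans hgxy))
  have hne1 : ∀ x ∈ Dl D d, x ∉ Subgroup.center ↥(Hd D d) := by
    intro x hx hxZ
    refine hab ?_
    obtain ⟨g, hg⟩ := htrS _ ⟨x, hx, rfl⟩ _ ⟨a₀, ha₀, rfl⟩
    rw [← hg, (QuotientGroup.eq_one_iff x).2 hxZ, mul_one, mul_inv_cancel]
    exact Commute.one_left _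
  obtain ⟨h2S, hrel⟩ := M23_core (grp_Dq hD hne1) htrS h23'
  have hnt : Nontrivial (Sd D d) := ⟨QuotientGroup.mk a₀, QuotientGroup.mk b₀, fun e => hab (e ▸ Commute.refl _)⟩
  obtain ⟨-, -, hsep⟩ := core hD hprim.1 hZ hd hnt h2S
  exact rel_lift hD hprim.1 hd hsep hrel

end Cfsg.Agent.ThreeTransp.Factor
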